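import Groth.Agent.CurveSep.Lift

/-!
Kernel of the complement of the exceptional divisor and intersection multiplicities.
-/

set_option autoImplicit false
set_option backward.isDefEq.respectTransparency false
set_option backward.isDefEq.respectTransparency.types false
set_option linter.style.haveILetI false

universe u

open CategoryTheory CategoryTheory.Limits AlgebraicGeometry TopologicalSpace

noncomputable section

namespace Groth.Agent.CurveSep

theorem ker_strict {C X X' : Scheme.{u}} (j : C ⟶ X') (b : X' ⟶ X) [IsClosedImmersion (j ≫ b)] [IsClosedImmersion j]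
    (U : X.Opens) [IsIso (b ∣_ U)] :
    ((((j ≫ b).ker.comap b).subschemeι ⁻¹ᵁ (b ⁻¹ᵁ U)).ι ≫ ((j ≫ b).ker.comap b).subschemeι).ker =
      ((j ⁻¹ᵁ (b ⁻¹ᵁ U)).ι ≫ j).ker := by
  set K := (j ≫ b).ker.comap b with hK
  have h1 : (j ∣_ (b ⁻¹ᵁ U)).ker = ((j ≫ b) ∣_ U).ker.comap (b ∣_ U) := by
    have e := (Scheme.IdealSheafData.map_ker (j ∣_ (b ⁻¹ᵁ U)) (b ∣_ U))
    rw [morphismRestrict_comp j b U, ← e, ResolveCurve.comap_map_eq_self]
  have h2 : (j ∣_ (b ⁻¹ᵁ U)).ker = (j ≫ b).ker.comap ((b ⁻¹ᵁ U).ι ≫ b) := by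
    rw [h1, AlmostBlow.ker_of_isPullback (isPullback_morphismRestrict (j ≫ b) U).flip,
      ← Scheme.IdealSheafData.comap_comp, morphismRestrict_ι]
  have h3 : (K.subschemeι ∣_ (b ⁻¹ᵁ U)).ker = (j ≫ b).ker.comap ((b ⁻¹ᵁ U).ι ≫ b) := by
    rw [AlmostBlow.ker_of_isPullback (isPullback_morphismRestrict K.subschemeι (b ⁻¹ᵁ U)).flip,
      Scheme.IdealSheafData.ker_subschemeι, hK, ← Scheme.IdealSheafData.comap_comp]
  calc ((K.subschemeι ⁻¹ᵁ (b ⁻¹ᵁ U)).ι ≫ K.subschemeι).ker
      = ((K.subschemeι ∣_ (b ⁻¹ᵁ U)) ≫ (b ⁻¹ᵁ U).ι).ker :=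
        congrArg Scheme.Hom.ker (morphismRestrict_ι K.subschemeι (b ⁻¹ᵁ U)).symm
    _ = (K.subschemeι ∣_ (b ⁻¹ᵁ U)).ker.map (b ⁻¹ᵁ U).ι := (Scheme.IdealSheafData.map_ker _ _).symm
    _ = (j ∣_ (b ⁻¹ᵁ U)).ker.map (b ⁻¹ᵁ U).ι :=
        congrArg (fun I : Scheme.IdealSheafData (b ⁻¹ᵁ U).toScheme => I.map (b ⁻¹ᵁ U).ι) (h3.trans h2.symm)
    _ = ((j ∣_ (b ⁻¹ᵁ U)) ≫ (b ⁻¹ᵁ U).ι).ker := Scheme.IdealSheafData.map_ker _ _
    _ = _ := congrArg Scheme.Hom.ker (morphismRestrict_ι j (b ⁻¹ᵁ U))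

theorem ker_restrict {C X' : Scheme.{u}} (j : C ⟶ X') [IsClosedImmersion j] {E : X'.IdealSheafData}
    (hc : BlowUp.IsEffCartierIdeal (E.comap j)) : ((j ⁻¹ᵁ E.support.compl).ι ≫ j).ker = j.ker := by
  have hbot : (j ⁻¹ᵁ HTop.awayFrom E).ι.ker = ⊥ :=
    AlmostBlow.awayFrom_comap (𝓘 := E) j ▸ AlmostBlow.supportedOn_eq_bot hc
  show ((j ⁻¹ᵁ HTop.awayFrom E).ι ≫ j).ker = j.ker
  rw [← Scheme.IdealSheafData.map_ker, hbot, Scheme.IdealSheafData.map_bot]

theorem compl_support_comap {X X' : Scheme.{u}} (b : X' ⟶ X) {p : X} (hp : IsClosed ({p} : Set X)) :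
    ((vp hp).comap b).support.compl = b ⁻¹ᵁ (vp hp).support.compl := by
  ext y
  show y ∉ (((vp hp).comap b).support : Set X') ↔ b y ∉ ((vp hp).support : Set X)
  rw [Scheme.IdealSheafData.support_comap]
  exact Iff.rfl

theorem length_ringEquiv {R S : Type u} [CommRing R] [CommRing S] (e : R ≃+* S) :
    Module.length R R = Module.length S S := by
  haveI : RingHomSurjective (e : R →+* S) := ⟨e.surjective⟩
  let g : R →ₛₗ[(e : R →+* S)] S := ⟨⟨e, map_add e⟩, map_mul e⟩
  rw [Module.length, Module.length, WithBot.unbot_inj,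
    Order.krullDim_eq_of_orderIso (Submodule.orderIsoMapComapOfBijective g e.bijective)]

theorem length_stalk_subscheme {X : Scheme.{u}} (I : X.IdealSheafData) (z : I.subscheme) :
    ∀ x : X, I.subschemeι z = x →
      Module.length (I.subscheme.presheaf.stalk z) (I.subscheme.presheaf.stalk z) =
        Module.length (X.presheaf.stalk x ⧸ IntMult.stalkIdeal I x) (X.presheaf.stalk x ⧸ IntMult.stalkIdeal I x) := by
  rintro _ rfl
  rw [BivarOps.stalkIdeal_eq]
  exact (length_ringEquiv (RingHom.quotientKerEquivOfSurjective (I.subschemeι.stalkMap_surjective z))).symm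

theorem length_stalk_sup {C X : Scheme.{u}} (j : C ⟶ X) [IsClosedImmersion j] (B : X.IdealSheafData) {c : C}
    (z : (j.ker ⊔ B).subscheme) (h : (j.ker ⊔ B).subschemeι z = j c) :
    Module.length ((j.ker ⊔ B).subscheme.presheaf.stalk z) ((j.ker ⊔ B).subscheme.presheaf.stalk z) =
      colen (B.comap j) c := by
  rw [length_stalk_subscheme _ z _ h, sI_sup, DiagTor.stalkIdeal_ker, colen, sI_comap]
  exact length_self_quot _ (j.stalkMap_surjective c) _

theorem main_7358 (X : Scheme.{u}) [IsLocallyNoetherian X] (IY IZ : X.IdealSheafData) [IsIntegral IY.subscheme]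
    (hdimY : topologicalKrullDim ↥IY.subscheme = 1) (p : X) (hp : IsClosed ({p} : Set X))
    (hpY : p ∈ (IY.support : Set X)) (hpZ : p ∈ (IZ.support : Set X))
    (hgen : IY.subschemeι (genericPoint ↥IY.subscheme) ∉ (IZ.support : Set X))
    (hreg : ∀ y : ↥IY.subscheme, IY.subschemeι y = p → IsRegularLocalRing (IY.subscheme.presheaf.stalk y))
    (X' : Scheme.{u}) (b : X' ⟶ X) (hb : BlowUp.IsBlowUp b (vp hp)) (IY' IZ' : X'.IdealSheafData)
    (hY' : IY' = ((((IY.comap b).subschemeι ⁻¹ᵁ ((vp hp).comap b).support.compl).ι) ≫ (IY.comap b).subschemeι).ker)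
    (hZ' : IZ' = ((((IZ.comap b).subschemeι ⁻¹ᵁ ((vp hp).comap b).support.compl).ι) ≫ (IZ.comap b).subschemeι).ker) :
    (∃ e : IY'.subscheme ≅ IY.subscheme, e.hom ≫ IY.subschemeι = IY'.subschemeι ≫ b) ∧
    (∃ q : X', {x : X' | x ∈ (IY'.support : Set X') ∧ x ∈ (((vp hp).comap b).support : Set X')} = {q} ∧
      (∀ q1 : ↥(IY' ⊔ (vp hp).comap b).subscheme, (IY' ⊔ (vp hp).comap b).subschemeι q1 = q →
        Module.length ((IY' ⊔ (vp hp).comap b).subscheme.presheaf.stalk q1)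
          ((IY' ⊔ (vp hp).comap b).subscheme.presheaf.stalk q1) = 1) ∧
      (q ∈ (IZ'.support : Set X') → ∀ (q0 : ↥(IY ⊔ IZ).subscheme) (q1 : ↥(IY' ⊔ IZ').subscheme),
        (IY ⊔ IZ).subschemeι q0 = p → (IY' ⊔ IZ').subschemeι q1 = q →
        Module.length ((IY' ⊔ IZ').subscheme.presheaf.stalk q1) ((IY' ⊔ IZ').subscheme.presheaf.stalk q1) <
          Module.length ((IY ⊔ IZ).subscheme.presheaf.stalk q0) ((IY ⊔ IZ).subscheme.presheaf.stalk q0))) := by
  have hne : ∃ c, IY.subschemeι c ≠ p := ⟨genericPoint _, fun h => hgen (h ▸ hpZ)⟩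
  obtain ⟨j, hj, hjc⟩ := exists_lift IY.subschemeι hp hdimY.le hne hreg hb
  haveI := hjc
  haveI : IsClosedImmersion (j ≫ b) := by rw [hj]; infer_instance
  haveI := BlowUpLib.isIso_restrict hb
  have hcart : BlowUp.IsEffCartierIdeal (((vp hp).comap b).comap j) := by
    rw [← Scheme.IdealSheafData.comap_comp, hj]
    exact cartier_comap_vp IY.subschemeι hp hdimY.le hne hreg
  have hY : IY' = j.ker := by
    rw [hY']
    have h1 := ker_strict j b (vp hp).support.compl
    rw [hj, Scheme.IdealSheafData.ker_subschemeι, ← compl_support_comap b hp, ker_restrict j hcart] at h1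
    exact h1
  clear hY'
  subst hY
  obtain ⟨c, hc⟩ := BivarOps.exists_point IY hpY
  have hbj : ∀ z, b (j z) = IY.subschemeι z := fun z => by rw [← Scheme.Hom.comp_apply, hj]
  have hsupp : (j.ker.support : Set X') = Set.range j := by
    rw [Scheme.Hom.support_ker, j.isClosedEmbedding.isClosed_range.closure_eq]
  refine ⟨⟨(asIso j.toImage).symm, ?_⟩, j c, Set.ext fun x => ?_, fun q1 hq1 => ?_, fun _ q0 q1 hq0 hq1 => ?_⟩
  · rw [Iso.symm_hom, asIso_inv, ← hj, IsIso.inv_comp_eq, ← Category.assoc]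
    exact (congrArg (· ≫ b) j.toImage_imageι).symm
  · rw [Set.mem_ofPred_eq, Set.mem_singleton_iff, hsupp]
    refine ⟨fun ⟨⟨z, hz⟩, hx⟩ => ?_, fun h => h ▸ ⟨⟨c, rfl⟩, (mem_support_vp_comap b hp).2 ((hbj c).trans hc)⟩⟩
    have h1 : IY.subschemeι z = p := by
      rw [← hbj, hz]; exact (mem_support_vp_comap b hp).1 hx
    rw [← hz, IY.subschemeι.isClosedEmbedding.injective (h1.trans hc.symm)]
  · rw [length_stalk_sup j _ q1 hq1, colen, stalk_exceptional IY.subschemeι hp hj hc]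
    haveI : IsSimpleModule _ (IY.subscheme.presheaf.stalk c ⧸ IsLocalRing.maximalIdeal (IY.subscheme.presheaf.stalk c)) :=
      isSimpleModule_iff_isCoatom.2 (Ideal.isMaximal_def.1 inferInstance)
    exact Module.length_eq_one _ _
  · haveI := isProper_b hp hb
    haveI : IsLocallyNoetherian X' := LocallyOfFiniteType.isLocallyNoetherian b
    haveI : IsLocallyNoetherian (IZ.comap b).subscheme :=
      LocallyOfFiniteType.isLocallyNoetherian (IZ.comap b).subschemeι
    let V := (IZ.comap b).subschemeι ⁻¹ᵁ ((vp hp).comap b).support.compl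
    have hT : BlowUp.IsEffCartierIdeal (((vp hp).comap b).comap (V.ι ≫ (IZ.comap b).subschemeι)) := by
      rw [BlowUpLib.comap_eq_top _ _ fun (x : ↥V.toScheme) => show (IZ.comap b).subschemeι (V.ι x) ∉ ((vp hp).comap b).support from x.2]
      exact BlowUpLib.cartier_top
    have hle : IZ.comap b ≤ (V.ι ≫ (IZ.comap b).subschemeι).ker :=
      le_of_eq_of_le (Scheme.IdealSheafData.ker_subschemeι _).symm (Scheme.Hom.le_ker_comp _ _)
    have hgen' : IY.subschemeι (genericPoint IY.subscheme) ∉ IZ.support := hgen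
    have h := length_lt IY.subschemeι hp hdimY.le hne hreg hj hb.1 (V.ι ≫ (IZ.comap b).subschemeι) hT hpZ hle hgen' hc
    have e0 : Module.length ((IY ⊔ IZ).subscheme.presheaf.stalk q0) ((IY ⊔ IZ).subscheme.presheaf.stalk q0) =
        colen (IZ.comap IY.subschemeι) c := by
      have := length_stalk_sup IY.subschemeι IZ (c := c)
      rw [Scheme.IdealSheafData.ker_subschemeι] at this
      exact this q0 (hq0.trans hc.symm)
    rw [e0, length_stalk_sup j _ q1 hq1, hZ']
    exact (ENat.add_one_le_iff (ne_top_of_le_ne_top h.1 (le_trans le_self_add h.2))).1 h.2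

end Groth.Agent.CurveSep
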