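import Groth.Agent.W7Cech.GlobSec
import Groth.Agent.LenSum2.Basic
import Groth.Agent.SpQS.UnivBddScheme
import Groth.Agent.CurveSep.Strict
import Groth.Prelude.Def_ClSub2

/-!
Global sections of finite subschemes and their local lengths.
-/

set_option autoImplicit false
set_option backward.isDefEq.respectTransparency false
set_option backward.isDefEq.respectTransparency.types false
set_option linter.style.haveILetI false

universe u

open CategoryTheory CategoryTheory.Limits AlgebraicGeometry TopologicalSpace

noncomputable section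

namespace Groth.Agent.CurveSep

theorem length_hh_quotMod {A : Type u} [CommRing A] {X : Scheme.{u}} [X.Over (Spec (CommRingCat.of A))]
    (I : X.IdealSheafData) :
    letI := ((I.subschemeι.appTop).hom.comp (Coh.toGlobal (X ↘ Spec (CommRingCat.of A)))).toAlgebra
    Module.length A (Coh.HH X (ClSub.quotMod I) 0) = Module.length A Γ(I.subscheme, ⊤) := by
  letI := ((I.subschemeι.appTop).hom.comp (Coh.toGlobal (X ↘ Spec (CommRingCat.of A)))).toAlgebra
  let e : ((CohIII.globalSectionsA A).obj (ClSub.quotMod I) : Type u) ≃ₗ[A] Γ(I.subscheme, ⊤) :=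
    { toFun := fun s => s
      invFun := fun s => s
      map_add' := fun _ _ => rfl
      map_smul' := fun _ _ => rfl }
  exact ((W7Cech.gsH0L A (ClSub.quotMod I)).symm.trans e).length_eq

theorem sum_stalk_le {A : Type u} [CommRing A] (Z : Scheme.{u}) [Finite Z] [DiscreteTopology Z]
    [Algebra A Γ(Z, ⊤)] (hfin : Module.length A Γ(Z, ⊤) ≠ ⊤) :
    ∑ᶠ z : Z, Module.length (Z.presheaf.stalk z) (Z.presheaf.stalk z) ≤ Module.length A Γ(Z, ⊤) := by
  classical
  haveI := SpQS.isAffine_of_finite_of_discrete Z
  haveI := Fintype.ofFinite Z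
  let B : Type u := Γ(Z, ⊤)
  have hle : Module.length B B ≤ Module.length A B := by
    have := Submodule.length_le_length_restrictScalars A (⊤ : Submodule B B)
    rwa [Submodule.restrictScalars_top, Module.length_top, Module.length_top] at this
  have hB : IsFiniteLength B B := Module.length_ne_top_iff.1 (ne_top_of_le_ne_top hfin hle)
  let hT := isAffineOpen_top Z
  let P : Z → PrimeSpectrum B := fun z => hT.primeIdealOf ⟨z, trivial⟩
  have hPf : ∀ z, hT.fromSpec (P z) = z := fun z => hT.fromSpec_primeIdealOf ⟨z, trivial⟩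
  have hmax : ∀ z, (P z).asIdeal.IsMaximal := fun z =>
    hT.primeIdealOf_isMaximal_of_isClosed ⟨z, trivial⟩ (isClosed_discrete _)
  have hsum := LenSum2.length_eq_sum_lenAt (A := B) (B := B) (Finset.univ.image P) (fun p => ⟨fun _ => by
    refine Finset.mem_image.2 ⟨hT.fromSpec p, Finset.mem_univ _, hT.fromSpec.isOpenEmbedding.injective (hPf _)⟩,
    fun hp => by
    obtain ⟨z, -, rfl⟩ := Finset.mem_image.1 hp
    exact hmax z⟩) B hB
  have hinj : Function.Injective P := fun a b h => by rw [← hPf a, ← hPf b, h]
  rw [Finset.sum_image (fun a _ b _ h => hinj h)] at hsum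
  rw [finsum_eq_sum_of_fintype]
  refine le_trans (le_of_eq ?_) hle
  rw [hsum]
  refine Finset.sum_congr rfl fun z _ => ?_
  haveI := hmax z
  haveI : IsSimpleModule B (B ⧸ (P z).asIdeal) := isSimpleModule_iff_isCoatom.2 (Ideal.isMaximal_def.1 (hmax z))
  rw [Module.length_eq_one B (B ⧸ (P z).asIdeal), one_mul]
  letI : Algebra B (Z.presheaf.stalk z) := (Z.presheaf.germ ⊤ z trivial).hom.toAlgebra
  haveI : IsLocalization.AtPrime (Z.presheaf.stalk z) (P z).asIdeal := hT.isLocalization_stalk ⟨z, trivial⟩
  exact (length_ringEquiv (IsLocalization.algEquiv (P z).asIdeal.primeCompl (Localization.AtPrime (P z).asIdeal)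
    (Z.presheaf.stalk z)).toRingEquiv).symm

end Groth.Agent.CurveSep
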