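import Groth.Agent.PtBlow.Chart

/-!
The residual of an ideal after blowing up has smaller colength: both charts at once.
-/

set_option autoImplicit false

universe u

open Polynomial

namespace Groth.Agent.CurveSep

open Groth.Agent.PtBlow

variable {A : Type u} [CommRing A] {m : Ideal A} {x y : A} {R₀ R₁ : Type u} [CommRing R₀] [Algebra A R₀]
  [CommRing R₁] [Algebra A R₁] {τ : R₀} {σ : R₁}

theorem residual_two [IsNoetherianRing A] [m.IsMaximal] (hG : Good m x y) (h₀ : Chart x y R₀ τ)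
    (h₁ : Chart y x R₁ σ) {J : Ideal A} {N o : ℕ} (hJN : m ^ N ≤ J) (hJo : J ≤ m ^ o) (hJo' : ¬ J ≤ m ^ (o + 1))
    (ho : 1 ≤ o) (K : Ideal R₀)
    (hK : ∀ r, algebraMap A R₀ x ^ o * r ∈ J.map (algebraMap A R₀) → r ∈ K) (L : Ideal R₁)
    (hL : ∀ r, algebraMap A R₁ y ^ o * r ∈ J.map (algebraMap A R₁) → r ∈ L) (hσ : σ ∈ L.radical) :
    Module.length A ((R₀ ⧸ K) × (R₁ ⧸ L)) < Module.length A (A ⧸ J) := by
  let Q := (R₀ ⧸ K) × (R₁ ⧸ L)
  have hc₀ : ∀ {s t : R₀}, algebraMap A R₀ x ^ o * s = algebraMap A R₀ x ^ o * t → s = t := fun he =>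
    (mul_cancel_left_mem_nonZeroDivisors (pow_mem h₀.nzd o)).1 he
  have hc₁ : ∀ {s t : R₁}, algebraMap A R₁ y ^ o * s = algebraMap A R₁ y ^ o * t → s = t := fun he =>
    (mul_cancel_left_mem_nonZeroDivisors (pow_mem h₁.nzd o)).1 he
  have hd₀ : ∀ c : (m ^ o : Ideal A), ∃ r : R₀, algebraMap A R₀ c = algebraMap A R₀ x ^ o * r := fun c => by
    obtain ⟨g, hg, hgc⟩ := exists_hom hG.span o c.2
    exact ⟨aeval τ g, by rw [← hgc, h₀.map_hom hg]⟩
  have hd₁ : ∀ c : (m ^ o : Ideal A), ∃ r : R₁, algebraMap A R₁ c = algebraMap A R₁ y ^ o * r := fun c => by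
    obtain ⟨g, hg, hgc⟩ := exists_hom hG.symm.span o c.2
    exact ⟨aeval σ g, by rw [← hgc, h₁.map_hom hg]⟩
  choose r₀ hr₀ using hd₀
  choose r₁ hr₁ using hd₁
  let Φ : (m ^ o : Ideal A) →ₗ[A] Q :=
    { toFun := fun c => (Ideal.Quotient.mk K (r₀ c), Ideal.Quotient.mk L (r₁ c))
      map_add' := fun c d => by
        rw [Prod.mk_add_mk, ← map_add, ← map_add]
        congr 2
        · exact hc₀ (by rw [mul_add, ← hr₀, ← hr₀, ← hr₀, Submodule.coe_add, map_add])
        · exact hc₁ (by rw [mul_add, ← hr₁, ← hr₁, ← hr₁, Submodule.coe_add, map_add])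
      map_smul' := fun a c => by
        show (Ideal.Quotient.mk K (r₀ (a • c)), Ideal.Quotient.mk L (r₁ (a • c))) = _
        rw [RingHom.id_apply, Prod.smul_mk, ← Ideal.Quotient.mkₐ_eq_mk A K, ← Ideal.Quotient.mkₐ_eq_mk A L,
          ← map_smul, ← map_smul]
        congr 2
        · exact hc₀ (by rw [Algebra.smul_def, mul_left_comm, ← hr₀, ← hr₀, Submodule.coe_smul, smul_eq_mul, map_mul])
        · exact hc₁ (by rw [Algebra.smul_def, mul_left_comm, ← hr₁, ← hr₁, Submodule.coe_smul, smul_eq_mul, map_mul]) }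
  let S : Submodule A Q := LinearMap.range Φ
  let T : Submodule A Q := S ⊔ m • ⊤
  have hbase : ∀ a ∈ m, ∀ q : Q, a • q ∈ T := fun a ha q =>
    Submodule.mem_sup_right (Submodule.smul_mem_smul ha trivial)
  let e₀ : R₀ →ₗ[A] Q := (LinearMap.inl A _ _).comp (Ideal.Quotient.mkₐ A K).toLinearMap
  let e₁ : R₁ →ₗ[A] Q := (LinearMap.inr A _ _).comp (Ideal.Quotient.mkₐ A L).toLinearMap
  have he₀ : ∀ z, e₀ z = (Ideal.Quotient.mk K z, 0) := fun z => rfl
  have he₁ : ∀ z, e₁ z = (0, Ideal.Quotient.mk L z) := fun z => rfl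
  have hα : ∀ a ∈ m, ∀ z, e₀ (algebraMap A R₀ a * z) ∈ T := fun a ha z => by
    rw [← Algebra.smul_def, map_smul]; exact hbase a ha _
  have hβ : ∀ a ∈ m, ∀ z, e₁ (algebraMap A R₁ a * z) ∈ T := fun a ha z => by
    rw [← Algebra.smul_def, map_smul]; exact hbase a ha _
  -- a form of degree `o` in `J` with a unit coefficient
  obtain ⟨f, hfJ, hfo⟩ : ∃ f ∈ J, f ∉ m ^ (o + 1) := Set.not_subset.1 hJo'
  obtain ⟨p, hp, rfl⟩ := exists_hom hG.span o (hJo hfJ)
  have hex : ∃ j, p.coeff j ∉ m := by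
    by_contra hcon
    push Not at hcon
    refine hfo (Ideal.sum_mem _ fun j hj => ?_)
    have hj' : j ≤ o := Nat.lt_succ_iff.1 (Finset.mem_range.1 hj)
    have h1 := Ideal.mul_mem_mul (Ideal.pow_mem_pow hG.right_mem j) (Ideal.pow_mem_pow hG.left_mem (o - j))
    rw [← pow_add, Nat.add_sub_cancel' hj'] at h1
    rw [mul_assoc, pow_succ']
    exact Ideal.mul_mem_mul (hcon j) h1
  obtain ⟨d, hdm, hdmax⟩ : ∃ d, p.coeff d ∉ m ∧ ∀ j, d < j → p.coeff j ∈ m := by
    classical
    obtain ⟨j, hj⟩ := hex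
    have hne : (p.support.filter fun j => p.coeff j ∉ m).Nonempty :=
      ⟨j, Finset.mem_filter.2 ⟨mem_support_iff.2 fun h0 => hj (h0 ▸ zero_mem m), hj⟩⟩
    refine ⟨_, (Finset.mem_filter.1 (Finset.max'_mem _ hne)).2, fun i hi => ?_⟩
    by_contra hcon
    exact absurd (Finset.le_max' _ i (Finset.mem_filter.2
      ⟨mem_support_iff.2 fun h0 => hcon (h0 ▸ zero_mem m), hcon⟩)) (not_le.2 hi)
  have hdo : d ≤ o := le_of_not_gt fun hgt => hdm (by
    rw [coeff_eq_zero_of_natDegree_lt (lt_of_le_of_lt hp hgt)]; exact zero_mem m)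
  obtain ⟨u, w, hw, huw⟩ := Ideal.IsMaximal.exists_inv ‹m.IsMaximal› hdm
  have hpK : aeval τ p ∈ K := hK _ (by rw [← h₀.map_hom hp]; exact Ideal.mem_map_of_mem _ hfJ)
  have hpL : ∑ j ∈ Finset.range (o + 1), algebraMap A R₁ (p.coeff j) * σ ^ (o - j) ∈ L := hL _ (by
    have hh : algebraMap A R₁ (hom x y o p) =
        algebraMap A R₁ y ^ o * ∑ j ∈ Finset.range (o + 1), algebraMap A R₁ (p.coeff j) * σ ^ (o - j) := by
      rw [hom, map_sum, Finset.mul_sum]
      refine Finset.sum_congr rfl fun j hj => ?_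
      have hj' : j ≤ o := Nat.lt_succ_iff.1 (Finset.mem_range.1 hj)
      rw [map_mul, map_mul, map_pow, map_pow, h₁.rel, mul_pow,
        show algebraMap A R₁ y ^ o = algebraMap A R₁ y ^ j * algebraMap A R₁ y ^ (o - j) by
          rw [← pow_add, Nat.add_sub_cancel' hj']]
      ring
    rw [← hh]
    exact Ideal.mem_map_of_mem _ hfJ)
  have hyR : ∀ a ∈ m, ∀ z : R₁, algebraMap A R₁ a * z ∈ Ideal.span {algebraMap A R₁ y} := fun a ha z =>
    Ideal.mul_mem_right _ _ (h₁.map_eq hG.symm ▸ Ideal.mem_map_of_mem _ ha)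
  have hσd : σ ^ (o - d) ∈ L ⊔ Ideal.span {algebraMap A R₁ y} := by
    obtain ⟨n, hn⟩ := hσ
    let I₁ := L ⊔ Ideal.span {algebraMap A R₁ y}
    let π := Ideal.Quotient.mk I₁
    let g : R₁ := ∑ j ∈ Finset.range d, algebraMap A R₁ (p.coeff j) * σ ^ (d - j - 1)
    have hsum : π (σ ^ (o - d)) * (π (algebraMap A R₁ (p.coeff d)) + π σ * π g) = 0 := by
      rw [← map_mul, ← map_add, ← map_mul, Ideal.Quotient.eq_zero_iff_mem]
      have hsplit : ∑ j ∈ Finset.range (o + 1), algebraMap A R₁ (p.coeff j) * σ ^ (o - j) =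
          σ ^ (o - d) * (algebraMap A R₁ (p.coeff d) + σ * g) +
            ∑ j ∈ Finset.Ico (d + 1) (o + 1), algebraMap A R₁ (p.coeff j) * σ ^ (o - j) := by
        rw [← Finset.sum_range_add_sum_Ico _ (show d + 1 ≤ o + 1 by omega), Finset.sum_range_succ]
        congr 1
        rw [mul_add, add_comm, mul_comm (σ ^ (o - d)) (algebraMap A R₁ _)]
        congr 1
        rw [Finset.mul_sum, Finset.mul_sum]
        refine Finset.sum_congr rfl fun j hj => ?_
        have hj' := Finset.mem_range.1 hj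
        rw [show o - j = (o - d) + 1 + (d - j - 1) by omega, pow_add, pow_succ]
        ring
      have h2 : ∑ j ∈ Finset.Ico (d + 1) (o + 1), algebraMap A R₁ (p.coeff j) * σ ^ (o - j) ∈ I₁ :=
        Ideal.sum_mem _ fun j hj => Ideal.mem_sup_right (hyR _ (hdmax j (by
          have := (Finset.mem_Ico.1 hj).1; omega)) _)
      have h3 := I₁.sub_mem (Ideal.mem_sup_left hpL : _ ∈ I₁) h2
      rwa [hsplit, add_sub_cancel_right] at h3
    have hnil : IsNilpotent (π σ * (π (algebraMap A R₁ u) * π g)) := by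
      refine (Commute.all _ _).isNilpotent_mul_right ⟨n, ?_⟩
      rw [← map_pow]
      exact Ideal.Quotient.eq_zero_iff_mem.2 (Ideal.mem_sup_left hn)
    have hone : π (algebraMap A R₁ u) * π (algebraMap A R₁ (p.coeff d)) = 1 := by
      rw [← map_mul, ← map_mul, ← sub_eq_zero, ← map_one π, ← map_sub, Ideal.Quotient.eq_zero_iff_mem,
        ← map_one (algebraMap A R₁), ← map_sub]
      refine Ideal.mem_sup_right ?_
      have := hyR (u * p.coeff d - 1) (by rw [show u * p.coeff d - 1 = -w by linear_combination huw]; exact m.neg_mem hw) 1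
      rwa [mul_one] at this
    have hunit : IsUnit (1 + π σ * (π (algebraMap A R₁ u) * π g)) := IsNilpotent.isUnit_one_add hnil
    rw [← Ideal.Quotient.eq_zero_iff_mem]
    refine (IsUnit.mul_left_eq_zero hunit).1 ?_
    calc π (σ ^ (o - d)) * (1 + π σ * (π (algebraMap A R₁ u) * π g))
        = π (σ ^ (o - d)) * (π (algebraMap A R₁ (p.coeff d)) + π σ * π g) * π (algebraMap A R₁ u) := by
          rw [← hone]; ring
      _ = 0 := by rw [hsum, zero_mul]
  have step1 : ∀ i, o - d ≤ i → e₁ (σ ^ i) ∈ T := fun i hi => by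
    have : σ ^ i ∈ L ⊔ Ideal.span {algebraMap A R₁ y} := by
      rw [show i = (i - (o - d)) + (o - d) by omega, pow_add]
      exact Ideal.mul_mem_left _ _ hσd
    obtain ⟨l, hl, z, hz, hlz⟩ := Submodule.mem_sup.1 this
    obtain ⟨c, rfl⟩ := Ideal.mem_span_singleton.1 hz
    rw [← hlz, map_add, he₁ l, Ideal.Quotient.eq_zero_iff_mem.2 hl, Prod.mk_zero_zero, zero_add]
    exact hβ y hG.right_mem c
  have hΦ : ∀ j, j ≤ o → e₀ (τ ^ j) + e₁ (σ ^ (o - j)) ∈ T := fun j hj => by
    refine Submodule.mem_sup_left ⟨⟨hom x y o (X ^ j), hom_mem hG.left_mem hG.right_mem _ _⟩, ?_⟩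
    show (Ideal.Quotient.mk K (r₀ _), Ideal.Quotient.mk L (r₁ _)) = _
    rw [he₀, he₁, Prod.mk_add_mk, add_zero, zero_add]
    have hv : hom x y o (X ^ j) = y ^ j * x ^ (o - j) := by
      rw [hom, Finset.sum_eq_single j (fun i _ hi => by rw [coeff_X_pow, if_neg hi, zero_mul, zero_mul])
        (fun h => absurd (Finset.mem_range.2 (Nat.lt_succ_of_le hj)) h), coeff_X_pow, if_pos rfl, one_mul]
    congr 2
    · refine hc₀ ((hr₀ _).symm.trans ?_)
      show algebraMap A R₀ (hom x y o (X ^ j)) = _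
      rw [h₀.map_hom ((natDegree_X_pow_le j).trans hj), map_pow, aeval_X]
    · refine hc₁ ((hr₁ _).symm.trans ?_)
      show algebraMap A R₁ (hom x y o (X ^ j)) = _
      rw [hv, map_mul, map_pow, map_pow, h₁.rel, mul_pow, ← mul_assoc, ← pow_add, Nat.add_sub_cancel' hj]
  have hexp : aeval τ p = algebraMap A R₀ (p.coeff d) * τ ^ d +
      ∑ i ∈ (Finset.range (o + 1)).erase d, algebraMap A R₀ (p.coeff i) * τ ^ i := by
    rw [Finset.add_sum_erase _ (fun i => algebraMap A R₀ (p.coeff i) * τ ^ i) (Finset.mem_range.2 (Nat.lt_succ_of_le hdo)),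
      aeval_eq_sum_range' (Nat.lt_succ_of_le hp)]
    exact Finset.sum_congr rfl fun i _ => Algebra.smul_def _ _
  have step3 : ∀ j, e₀ (τ ^ j) ∈ T := by
    intro j
    induction j using Nat.strong_induction_on with
    | _ j ih =>
    by_cases hj : j < d
    · have := T.sub_mem (hΦ j (by omega)) (step1 (o - j) (by omega))
      rwa [add_sub_cancel_right] at this
    have hid : τ ^ j = algebraMap A R₀ w * τ ^ j + algebraMap A R₀ u * τ ^ (j - d) * aeval τ p -
        ∑ i ∈ (Finset.range (o + 1)).erase d, algebraMap A R₀ (u * p.coeff i) * τ ^ (j - d + i) := by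
      have e1 : algebraMap A R₀ u * algebraMap A R₀ (p.coeff d) + algebraMap A R₀ w = 1 := by
        rw [← map_mul, ← map_add, huw, map_one]
      have e2 : τ ^ j = τ ^ (j - d) * τ ^ d := by rw [← pow_add, Nat.sub_add_cancel (by omega)]
      rw [hexp, mul_add, Finset.mul_sum, Finset.sum_congr rfl (fun i _ => show
        algebraMap A R₀ (u * p.coeff i) * τ ^ (j - d + i) =
          algebraMap A R₀ u * τ ^ (j - d) * (algebraMap A R₀ (p.coeff i) * τ ^ i) by
        rw [map_mul, pow_add]; ring)]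
      linear_combination -(τ ^ j) * e1 + algebraMap A R₀ u * algebraMap A R₀ (p.coeff d) * e2
    rw [hid, map_sub, map_add]
    refine T.sub_mem (T.add_mem (hα w hw _) ?_) ?_
    · rw [he₀, Ideal.Quotient.eq_zero_iff_mem.2 (K.mul_mem_left _ hpK)]
      exact T.zero_mem
    · rw [map_sum]
      refine T.sum_mem fun i hi => ?_
      by_cases hid' : i < d
      · rw [← Algebra.smul_def, map_smul]
        exact T.smul_mem _ (ih _ (by omega))
      · refine hα _ (Ideal.mul_mem_left _ _ (hdmax i ?_)) _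
        have := (Finset.mem_erase.1 hi).1
        omega
  have step4 : ∀ i, e₁ (σ ^ i) ∈ T := fun i => by
    by_cases hi : o - d ≤ i
    · exact step1 i hi
    · have := T.sub_mem (hΦ (o - i) (by omega)) (step3 (o - i))
      rwa [add_sub_cancel_left, Nat.sub_sub_self (by omega : i ≤ o)] at this
  have hall : T = ⊤ := eq_top_iff.2 fun q _ => by
    obtain ⟨q₀, q₁⟩ := q
    obtain ⟨z₀, rfl⟩ := Ideal.Quotient.mk_surjective q₀
    obtain ⟨z₁, rfl⟩ := Ideal.Quotient.mk_surjective q₁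
    obtain ⟨g₀, rfl⟩ := h₀.gen z₀
    obtain ⟨g₁, rfl⟩ := h₁.gen z₁
    have : (Ideal.Quotient.mk K (aeval τ g₀), Ideal.Quotient.mk L (aeval σ g₁)) =
        e₀ (aeval τ g₀) + e₁ (aeval σ g₁) := by rw [he₀, he₁, Prod.mk_add_mk, add_zero, zero_add]
    rw [this, aeval_eq_sum_range, aeval_eq_sum_range, map_sum, map_sum]
    exact T.add_mem (T.sum_mem fun i _ => by rw [map_smul]; exact T.smul_mem _ (step3 i))
      (T.sum_mem fun i _ => by rw [map_smul]; exact T.smul_mem _ (step4 i))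
  have hN0 : ∀ a ∈ m ^ N, ∀ q : Q, a • q = 0 := fun a ha q => by
    have k₀ : algebraMap A R₀ a ∈ K := hK _ (Ideal.mul_mem_left _ _ (Ideal.mem_map_of_mem _ (hJN ha)))
    have k₁ : algebraMap A R₁ a ∈ L := hL _ (Ideal.mul_mem_left _ _ (Ideal.mem_map_of_mem _ (hJN ha)))
    obtain ⟨q₀, q₁⟩ := q
    obtain ⟨z₀, rfl⟩ := Ideal.Quotient.mk_surjective q₀
    obtain ⟨z₁, rfl⟩ := Ideal.Quotient.mk_surjective q₁
    rw [Prod.smul_mk, ← Ideal.Quotient.mkₐ_eq_mk A K, ← Ideal.Quotient.mkₐ_eq_mk A L, ← map_smul, ← map_smul,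
      Algebra.smul_def, Algebra.smul_def, Ideal.Quotient.mkₐ_eq_mk, Ideal.Quotient.mkₐ_eq_mk,
      Ideal.Quotient.eq_zero_iff_mem.2 (K.mul_mem_right _ k₀), Ideal.Quotient.eq_zero_iff_mem.2 (L.mul_mem_right _ k₁)]
    rfl
  have hpow : ∀ k : ℕ, S ⊔ m ^ k • (⊤ : Submodule A Q) = ⊤ := by
    intro k
    induction k with
    | zero =>
      refine eq_top_iff.2 (le_sup_of_le_right fun q _ => ?_)
      have h1 : (1 : A) ∈ m ^ 0 := by simp
      have h2 := Submodule.smul_mem_smul h1 (Submodule.mem_top (R := A) (x := q))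
      rwa [one_smul] at h2
    | succ k ih =>
      have h1 : m ^ k • (⊤ : Submodule A Q) ≤ S ⊔ m ^ (k + 1) • (⊤ : Submodule A Q) := by
        calc m ^ k • (⊤ : Submodule A Q) = m ^ k • T := by rw [hall]
          _ = m ^ k • S ⊔ m ^ (k + 1) • (⊤ : Submodule A Q) := by
            rw [Submodule.smul_sup, pow_succ, Submodule.mul_smul]
          _ ≤ S ⊔ m ^ (k + 1) • (⊤ : Submodule A Q) := sup_le_sup_right (Submodule.smul_le.2 fun a _ q hq => S.smul_mem a hq) _
      exact eq_top_iff.2 (ih.symm.le.trans (sup_le le_sup_left h1))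
  have hsurj : Function.Surjective Φ := by
    rw [← LinearMap.range_eq_top]
    have h0 : m ^ N • (⊤ : Submodule A Q) = ⊥ := eq_bot_iff.2 (Submodule.smul_le.2 fun a ha q _ => by
      rw [Submodule.mem_bot]; exact hN0 a ha q)
    have := hpow N
    rwa [h0, sup_bot_eq] at this
  let J' : Submodule A (m ^ o : Ideal A) := Submodule.comap (m ^ o).subtype J
  let ι : (m ^ o : Ideal A) →ₗ[A] A ⧸ J := J.mkQ.comp (m ^ o).subtype
  have hker : LinearMap.ker ι = J' := by
    show LinearMap.ker (J.mkQ.comp (m ^ o).subtype) = _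
    rw [LinearMap.ker_comp, Submodule.ker_mkQ]
  have hJ' : J' ≤ LinearMap.ker Φ := fun c hc' => Prod.ext
    (Ideal.Quotient.eq_zero_iff_mem.2 <| hK _ <| by rw [← hr₀]; exact Ideal.mem_map_of_mem _ hc')
    (Ideal.Quotient.eq_zero_iff_mem.2 <| hL _ <| by rw [← hr₁]; exact Ideal.mem_map_of_mem _ hc')
  haveI : IsArtinianRing (A ⧸ J) := by
    rw [isArtinianRing_iff_krullDimLE_zero, Ring.krullDimLE_zero_iff]
    intro P hP
    haveI := Ideal.IsPrime.comap (Ideal.Quotient.mk J) (K := P)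
    have hmP : m ≤ P.comap (Ideal.Quotient.mk J) := fun z hz => by
      refine Ideal.IsPrime.mem_of_pow_mem inferInstance N ?_
      rw [Ideal.mem_comap, Ideal.Quotient.eq_zero_iff_mem.2 (hJN (Ideal.pow_mem_pow hz N))]
      exact zero_mem P
    haveI : (P.comap (Ideal.Quotient.mk J)).IsMaximal :=
      (Ideal.IsMaximal.eq_of_le ‹m.IsMaximal› (Ideal.IsPrime.ne_top inferInstance) hmP) ▸ ‹m.IsMaximal›
    rw [← Ideal.map_comap_of_surjective (Ideal.Quotient.mk J) Ideal.Quotient.mk_surjective P]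
    exact (Ideal.map_eq_top_or_isMaximal_of_surjective _ Ideal.Quotient.mk_surjective inferInstance).resolve_left
      (by rw [Ideal.map_comap_of_surjective _ Ideal.Quotient.mk_surjective]; exact hP.ne_top)
  haveI : IsArtinian A (A ⧸ J) :=
    isArtinian_of_surjective_algebraMap (S := A) (R := A ⧸ J) (M := A ⧸ J) (Ideal.Quotient.mk_surjective (I := J))
  calc Module.length A Q
      ≤ Module.length A ((m ^ o : Ideal A) ⧸ J') :=
        Module.length_le_of_surjective (J'.liftQ Φ hJ') fun z => by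
          obtain ⟨c, rfl⟩ := hsurj z; exact ⟨Submodule.Quotient.mk c, rfl⟩
    _ = Module.length A (LinearMap.range ι) := (Submodule.quotEquivOfEq _ _ hker.symm ≪≫ₗ
        ι.quotKerEquivRange).length_eq
    _ < Module.length A (A ⧸ J) := Submodule.length_lt fun htop => by
        obtain ⟨c, hc'⟩ := htop.ge (Submodule.mem_top (x := J.mkQ 1))
        have h1 := (Submodule.Quotient.eq J).1 (show J.mkQ (c : A) = J.mkQ 1 from hc')
        refine Ideal.IsMaximal.ne_top ‹m.IsMaximal› ((Ideal.eq_top_iff_one _).2 ?_)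
        have h2 : m ^ o ≤ m := Ideal.pow_le_self (by omega)
        simpa using Ideal.sub_mem m (h2 c.2) (h2 (hJo h1))

end Groth.Agent.CurveSep
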