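import Groth.Agent.CurveSep.Param

/-!
Configurations of regular curves, their intersection sum, and separation by point blow-ups.
-/

set_option autoImplicit false
set_option backward.isDefEq.respectTransparency false
set_option backward.isDefEq.respectTransparency.types false
set_option linter.style.haveILetI false

universe u

open CategoryTheory CategoryTheory.Limits AlgebraicGeometry TopologicalSpace

noncomputable section

namespace Groth.Agent.CurveSep

/-- weighted intersection number of two curves -/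
def psum (w : ℕ∞ → ℕ) {C D X : Scheme.{u}} (ι : C ⟶ X) (κ : D ⟶ X) : ℕ :=
  ∑ᶠ c, w (colen (κ.ker.comap ι) c)

variable {C D X X' : Scheme.{u}} {ι : C ⟶ X} {κ : D ⟶ X} {b : X' ⟶ X} {ι' : C ⟶ X'} {κ' : D ⟶ X'}
  {w : ℕ∞ → ℕ} (hw : ∀ e a : ℕ∞, e ≤ a → a ≠ ⊤ → w e ≤ w a) (hw0 : w 0 = 0)

include hw0 in
theorem psum_eq [IsNoetherian X] (h : IsRegCurve ι) (hκ : IsRegCurve κ) (hne : ¬ Set.range ι ⊆ Set.range κ) :
    psum w ι κ = ∑ c ∈ (finite_inter h hκ hne).toFinset, w (colen (κ.ker.comap ι) c) := by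
  refine finsum_eq_sum_of_support_subset _ fun c hc => ?_
  rw [(finite_inter h hκ hne).coe_toFinset]
  by_contra hn
  exact hc (by show w _ = 0; rw [(colen_eq_zero_iff hκ).2 hn, hw0])

include hw hw0 in
theorem psum_lift_eq_sum [IsNoetherian X] (h : IsRegCurve ι) (hκ : IsRegCurve κ) (hne : ¬ Set.range ι ⊆ Set.range κ)
    (hι : ι' ≫ b = ι) (hκb : κ' ≫ b = κ) [QuasiCompact κ'] :
    psum w ι' κ' = ∑ c ∈ (finite_inter h hκ hne).toFinset, w (colen (κ'.ker.comap ι') c) := by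
  refine finsum_eq_sum_of_support_subset _ fun c hc => ?_
  rw [(finite_inter h hκ hne).coe_toFinset]
  by_contra hn
  exact hc (Nat.le_zero.1 ((hw _ 0 ((colen_lift_le hι hκb c).trans_eq ((colen_eq_zero_iff hκ).2 hn)) (by simp)).trans_eq hw0))

include hw hw0 in
theorem psum_le [IsNoetherian X] (h : IsRegCurve ι) (hκ : IsRegCurve κ) (hne : ¬ Set.range ι ⊆ Set.range κ)
    (hι : ι' ≫ b = ι) (hκb : κ' ≫ b = κ) [QuasiCompact κ'] : psum w ι' κ' ≤ psum w ι κ := by
  rw [psum_eq hw0 h hκ hne, psum_lift_eq_sum hw hw0 h hκ hne hι hκb]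
  exact Finset.sum_le_sum fun c _ => hw _ _ (colen_lift_le hι hκb c) (colen_ne_top h hκ hne c)

include hw hw0 in
theorem psum_lt [IsNoetherian X] (h : IsRegCurve ι) (hκ : IsRegCurve κ) (hne : ¬ Set.range ι ⊆ Set.range κ)
    {p : X} {hp : IsClosed ({p} : Set X)} (hb : BlowUp.IsBlowUp b (vp hp))
    (hι : ι' ≫ b = ι) (hκb : κ' ≫ b = κ) [QuasiCompact κ'] {c : C} (hc : ι c = p) (hpκ : p ∈ Set.range κ)
    (hlt : ∀ e : ℕ∞, e + 1 ≤ colen (κ.ker.comap ι) c → w e < w (colen (κ.ker.comap ι) c)) :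
    psum w ι' κ' < psum w ι κ := by
  rw [psum_eq hw0 h hκ hne, psum_lift_eq_sum hw hw0 h hκ hne hι hκb]
  exact Finset.sum_lt_sum (fun c _ => hw _ _ (colen_lift_le hι hκb c) (colen_ne_top h hκ hne c))
    ⟨c, (finite_inter h hκ hne).mem_toFinset.2 (show ι c ∈ Set.range κ from hc ▸ hpκ),
      hlt _ (colen_lift_lt h hκ hne hb hι hκb hc hpκ)⟩

/-- the total weighted intersection number of a finite family of curves -/
def mu (w : ℕ∞ → ℕ) {J : Type} [Fintype J] [DecidableEq J] {X : Scheme.{u}} {C : J → Scheme.{u}}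
    (ι : ∀ k, C k ⟶ X) : ℕ :=
  ∑ i, ∑ k, if i = k then 0 else psum w (ι i) (ι k)

/-- a family of regular curves, none contained in another -/
structure IsCfg {J : Type} {X : Scheme.{u}} {C : J → Scheme.{u}} (ι : ∀ k, C k ⟶ X) : Prop where
  reg : ∀ k, IsRegCurve (ι k)
  sep : ∀ i k, i ≠ k → ¬ Set.range (ι i) ⊆ Set.range (ι k)

variable {J : Type} [Fintype J] [DecidableEq J] {Cs : J → Scheme.{u}} {ιs : ∀ k, Cs k ⟶ X}

theorem IsCfg.lift [IsLocallyNoetherian X] (h : IsCfg ιs) {p : X} {hp : IsClosed ({p} : Set X)}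
    (hb : BlowUp.IsBlowUp b (vp hp)) :
    ∃ ιs' : ∀ k, Cs k ⟶ X', (∀ k, ιs' k ≫ b = ιs k) ∧ IsCfg ιs' := by
  choose ιs' h1 h2 using fun k => (h.reg k).exists_lift hb
  exact ⟨ιs', h1, h2, fun i k hik => not_subset_lift (h1 i) (h1 k) (h.sep i k hik)⟩

include hw hw0 in
theorem mu_lift_lt [IsNoetherian X] (h : IsCfg ιs) {p : X} {hp : IsClosed ({p} : Set X)}
    (hb : BlowUp.IsBlowUp b (vp hp)) {ιs' : ∀ k, Cs k ⟶ X'} (hl : ∀ k, ιs' k ≫ b = ιs k) (h' : IsCfg ιs')
    {i k : J} (hik : i ≠ k) {c : Cs i} (hc : ιs i c = p) (hpk : p ∈ Set.range (ιs k))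
    (hlt : ∀ e : ℕ∞, e + 1 ≤ colen ((ιs k).ker.comap (ιs i)) c → w e < w (colen ((ιs k).ker.comap (ιs i)) c)) :
    mu w ιs' < mu w ιs := by
  have hle : ∀ a e : J, (if a = e then 0 else psum w (ιs' a) (ιs' e)) ≤ (if a = e then 0 else psum w (ιs a) (ιs e)) :=
    fun a e => by
      by_cases hae : a = e
      · simp [hae]
      · rw [if_neg hae, if_neg hae]
        haveI := (h'.reg e).closedImmersion
        exact psum_le hw hw0 (h.reg a) (h.reg e) (h.sep a e hae) (hl a) (hl e)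
  refine Finset.sum_lt_sum (fun a _ => Finset.sum_le_sum fun e _ => hle a e) ⟨i, Finset.mem_univ i, ?_⟩
  refine Finset.sum_lt_sum (fun e _ => hle i e) ⟨k, Finset.mem_univ k, ?_⟩
  rw [if_neg hik, if_neg hik]
  haveI := (h'.reg k).closedImmersion
  exact psum_lt hw hw0 (h.reg i) (h.reg k) (h.sep i k hik) hb (hl i) (hl k) hc hpk hlt

/-- Regular curves are separated by point blow-ups. -/
theorem separate : ∀ (N : ℕ) (X : Scheme.{u}) (ιs : ∀ k, Cs k ⟶ X), IsNoetherian X → IsCfg ιs →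
    mu (fun e => e.toNat) ιs ≤ N →
    ∃ (X' : Scheme.{u}) (g : X' ⟶ X) (ιs' : ∀ k, Cs k ⟶ X'), Resolve.IsPtBlowupSeq g ∧
      (∀ k, ιs' k ≫ g = ιs k) ∧ IsCfg ιs' ∧ ∀ i k, i ≠ k → Disjoint (Set.range (ιs' i)) (Set.range (ιs' k)) := by
  intro N
  induction N using Nat.strong_induction_on with
  | _ N ih =>
    intro X ιs hN h hle
    by_cases hd : ∀ i k, i ≠ k → Disjoint (Set.range (ιs i)) (Set.range (ιs k))
    · exact ⟨X, 𝟙 X, ιs, .iso (Iso.refl X), fun k => Category.comp_id _, h, hd⟩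
    push Not at hd
    obtain ⟨i, k, hik, hdis⟩ := hd
    obtain ⟨_, ⟨c, rfl⟩, hck⟩ := Set.not_disjoint_iff.1 hdis
    haveI := (h.reg i).integral
    have hcne : c ≠ genericPoint (Cs i) := fun e => gen_notMem (h.reg i) (h.reg k) (h.sep i k hik) (by
      haveI := (h.reg k).closedImmersion
      rw [← e]; exact (ιs k).range_subset_ker_support hck)
    have hp := ((h.reg i).exists_ne_gen hcne).2
    obtain ⟨X1, b, hb⟩ := BlowUpExist.exists_isBlowUp X (vp hp)
    haveI := isProper_b hp hb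
    haveI := isNoetherian_of_proper b
    obtain ⟨ιs1, hl, h1⟩ := h.lift hb
    have hlt : mu (fun e => e.toNat) ιs1 < mu (fun e => e.toNat) ιs := by
      refine mu_lift_lt (fun e a he ha => ENat.toNat_le_toNat he ha) (by simp) h hb hl h1 hik (c := c) rfl hck
        fun e he => ?_
      have hne := colen_ne_top (h.reg i) (h.reg k) (h.sep i k hik) c
      have h4 : e ≠ ⊤ := ne_top_of_le_ne_top hne (le_trans le_self_add he)
      have h3 := ENat.toNat_le_toNat he hne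
      rw [ENat.toNat_add h4 (by simp), ENat.toNat_one] at h3
      exact h3
    obtain ⟨X', g, ιs', hg, hl', hc', hd'⟩ := ih _ (lt_of_lt_of_le hlt hle) X1 ιs1 inferInstance h1 le_rfl
    exact ⟨X', g ≫ b, ιs', seq_comp hg (Category.comp_id b ▸ .step b (𝟙 X) _ hp hb (.iso (Iso.refl X))),
      fun k => by rw [← Category.assoc, hl', hl], hc', hd'⟩

end Groth.Agent.CurveSep
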