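import Groth.Agent.CurveSep.Config
import Groth.Agent.Nakai.FibreDeg

/-!
Embedded resolution of finitely many curves into disjoint regular curves.
-/

set_option autoImplicit false
set_option backward.isDefEq.respectTransparency false
set_option backward.isDefEq.respectTransparency.types false
set_option linter.style.haveILetI false

universe u

open CategoryTheory CategoryTheory.Limits AlgebraicGeometry TopologicalSpace

noncomputable section

namespace Groth.Agent.CurveSep

variable {J : Type} {X : Scheme.{u}} (I : J → X.IdealSheafData) [∀ i, IsIntegral (I i).subscheme]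

/-- parametrisations of distinct curves form a configuration -/
theorem isCfg_of_param [IsNoetherian X] (hdim : ∀ i, topologicalKrullDim ↥(I i).subscheme = 1)
    (hdist : Function.Injective I) {X' : Scheme.{u}} {g : X' ⟶ X} {Cs : J → Scheme.{u}} {ν : ∀ i, Cs i ⟶ X'}
    (hν : ∀ i, IsClosedImmersion (ν i)) (hp : ∀ i, IsParam (I i).subschemeι g (ν i)) : IsCfg ν := by
  refine ⟨fun i => (hp i).isRegCurve (hdim i) (hν i), fun i k hik hsub => hik (hdist ?_)⟩
  obtain ⟨-, ri, hwi, hrpi, hCi, ⟨V, hV, hiso⟩, -⟩ := hp i
  obtain ⟨-, rk, hwk, -⟩ := hp k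
  haveI := hCi
  haveI := hiso
  obtain ⟨c, hc⟩ := hsub ⟨genericPoint (Cs i), rfl⟩
  have he : (I k).subschemeι (rk c) = (I i).subschemeι (genericPoint (I i).subscheme) := by
    rw [← ResolveCurve.genericPoint_image ri hV, ← Scheme.Hom.comp_apply, ← Scheme.Hom.comp_apply, ← hwk, ← hwi,
      Scheme.Hom.comp_apply, Scheme.Hom.comp_apply, hc]
  have hgen : rk c = genericPoint (I k).subscheme := by
    by_contra hne
    refine ResolveCurve.not_isClosed_genericPoint (hdim i) ?_
    have h1 := (I k).subschemeι.isClosedEmbedding.isClosedMap _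
      (ResolveCurve.isClosed_of_ne_genericPoint (hdim k).le hne)
    rw [Set.image_singleton, he] at h1
    have h' := h1.preimage (I i).subschemeι.continuous
    rwa [show (I i).subschemeι ⁻¹' {(I i).subschemeι (genericPoint (I i).subscheme)} = {genericPoint _} from
      Set.ext fun y => ⟨fun e => (I i).subschemeι.isClosedEmbedding.injective e, fun e => congrArg _ e⟩] at h'
  rw [hgen] at he
  have hs : ((I i).support : Set X) = (I k).support := by
    rw [← Scheme.IdealSheafData.range_subschemeι, ← Scheme.IdealSheafData.range_subschemeι]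
    refine Set.Subset.antisymm ?_ ?_
    · rintro _ ⟨y, rfl⟩
      exact ((genericPoint_specializes y).map (I i).subschemeι.continuous).mem_closed
        (I k).subschemeι.isClosedEmbedding.isClosed_range ⟨_, he⟩
    · rintro _ ⟨y, rfl⟩
      exact ((genericPoint_specializes y).map (I k).subschemeι.continuous).mem_closed
        (I i).subschemeι.isClosedEmbedding.isClosed_range ⟨_, he.symm⟩
  have e1 := Nakai.ker_eq_vanishingIdeal (I i).subschemeι
  have e2 := Nakai.ker_eq_vanishingIdeal (I k).subschemeι
  rw [Scheme.IdealSheafData.ker_subschemeι] at e1 e2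
  rw [e1, e2]
  exact congrArg _ (Closeds.ext hs)

theorem main_7374 [IsNoetherian X] {n : ℕ} (I : Fin n → X.IdealSheafData) [∀ i, IsIntegral (I i).subscheme]
    (hdim : ∀ i, topologicalKrullDim ↥(I i).subscheme = 1)
    [∀ i, QuasiCompact ((I i).subscheme.fromSpecStalk (genericPoint ↥(I i).subscheme))]
    [∀ i, QuasiSeparated ((I i).subscheme.fromSpecStalk (genericPoint ↥(I i).subscheme))]
    (hfin : ∀ i, IsFinite (Curv2.normalizationι (I i).subscheme)) (hdist : Function.Injective I) :
    ∃ (X' : Scheme.{u}) (g : X' ⟶ X), Resolve.IsPtBlowupSeq g ∧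
      ∃ (I' : Fin n → X'.IdealSheafData) (g' : ∀ i, (I' i).subscheme ⟶ (I i).subscheme),
        (∀ i, IsIntegral (I' i).subscheme ∧ g' i ≫ (I i).subschemeι = (I' i).subschemeι ≫ g ∧
          (∃ V : (I i).subscheme.Opens, (V : Set ↥(I i).subscheme).Nonempty ∧ IsIso (g' i ∣_ V)) ∧
          ∀ y : ↥(I' i).subscheme, IsRegularLocalRing ((I' i).subscheme.presheaf.stalk y)) ∧
        ∀ i j, i ≠ j → Disjoint ((I' i).support : Set X') ((I' j).support : Set X') := by
  obtain ⟨X1, g1, hg1, h1⟩ := regularise_all (fun i => (I i).subscheme) (fun i => (I i).subschemeι) hdim fun i => by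
    haveI : IsNoetherian (I i).subscheme := isNoetherian_of_proper (I i).subschemeι
    haveI := hfin i
    exact ⟨_, _, ResolveCurve.resolution_of_finite_normalization _ (hdim i)⟩
  choose Cs ν hν hp using h1
  haveI := ResolveCurve.isProper_of_seq hg1
  haveI := isNoetherian_of_proper g1
  obtain ⟨X2, g2, ν', hg2, hl, hc, hd⟩ := separate _ X1 ν inferInstance (isCfg_of_param I hdim hdist hν hp) le_rfl
  haveI := fun i => (hc.reg i).closedImmersion
  haveI := fun i => (hc.reg i).integral
  choose r hw hres using fun i => (hp i).2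
  refine ⟨X2, g2 ≫ g1, seq_comp hg2 hg1, fun i => (ν' i).ker, fun i => inv (ν' i).toImage ≫ r i, fun i => ⟨?_, ?_, ?_, ?_⟩,
    fun i k hik => ?_⟩
  · haveI : Nonempty ↥(ν' i).ker.subscheme := ⟨(ν' i).toImage (genericPoint (Cs i))⟩
    exact isIntegral_of_isOpenImmersion (inv (ν' i).toImage)
  · rw [Category.assoc, ← hw i, IsIso.inv_comp_eq, ← hl i, Category.assoc]
    exact (congrArg (· ≫ (g2 ≫ g1)) (ν' i).toImage_imageι).symm.trans (Category.assoc _ _ _)
  · obtain ⟨V, hV, hiso⟩ := (hres i).2.2.1
    haveI := hiso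
    refine ⟨V, hV, ?_⟩
    rw [morphismRestrict_comp]
    infer_instance
  · intro y
    haveI := (hc.reg i).reg ((inv (ν' i).toImage) y)
    exact IsRegularLocalRing.of_ringEquiv (asIso ((inv (ν' i).toImage).stalkMap y)).commRingCatIsoToRingEquiv
  · rw [Scheme.Hom.support_ker, Scheme.Hom.support_ker, (ν' i).isClosedEmbedding.isClosed_range.closure_eq,
      (ν' k).isClosedEmbedding.isClosed_range.closure_eq]
    exact hd i k hik

end Groth.Agent.CurveSep
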