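import Mathlib

/-!
Lengths in one-dimensional regular local rings.
-/

set_option autoImplicit false

universe u

open IsLocalRing

namespace Groth.Agent.CurveSep

theorem length_self_quot {R S : Type u} [CommRing R] [CommRing S] (f : R →+* S) (hf : Function.Surjective f)
    (J : Ideal R) :
    Module.length (R ⧸ (RingHom.ker f ⊔ J)) (R ⧸ (RingHom.ker f ⊔ J)) = Module.length S (S ⧸ J.map f) := by
  have hk : RingHom.ker ((Ideal.Quotient.mk (J.map f)).comp f) = RingHom.ker f ⊔ J := by
    rw [← RingHom.comap_ker, Ideal.mk_ker, Ideal.comap_map_of_surjective _ hf, ← RingHom.ker_eq_comap_bot, sup_comm]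
  let e : (R ⧸ (RingHom.ker f ⊔ J)) ≃+* (S ⧸ J.map f) :=
    (Ideal.quotEquivOfEq hk.symm).trans
      (RingHom.quotientKerEquivOfSurjective (Ideal.Quotient.mk_surjective.comp hf))
  have h1 : Module.length (R ⧸ (RingHom.ker f ⊔ J)) (R ⧸ (RingHom.ker f ⊔ J)) =
      Module.length (S ⧸ J.map f) (S ⧸ J.map f) := by
    haveI : RingHomSurjective (e : (R ⧸ (RingHom.ker f ⊔ J)) →+* (S ⧸ J.map f)) := ⟨e.surjective⟩
    let g : (R ⧸ (RingHom.ker f ⊔ J)) →ₛₗ[(e : (R ⧸ (RingHom.ker f ⊔ J)) →+* (S ⧸ J.map f))] (S ⧸ J.map f) :=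
      ⟨⟨e, map_add e⟩, map_mul e⟩
    rw [Module.length, Module.length, WithBot.unbot_inj,
      Order.krullDim_eq_of_orderIso (Submodule.orderIsoMapComapOfBijective g e.bijective)]
  rw [h1, Module.length_eq_of_surjective (R := S ⧸ J.map f) (S := S) Ideal.Quotient.mk_surjective]

theorem length_mul_max {R : Type u} [CommRing R] [IsDomain R] [IsLocalRing R] [IsNoetherianRing R]
    [IsPrincipalIdealRing R] (hR : ¬ IsField R) {A J : Ideal R} (hA : A ≠ ⊥) (h : A ≤ J * maximalIdeal R) :
    Module.length R (R ⧸ A) ≠ ⊤ ∧ Module.length R (R ⧸ J) + 1 ≤ Module.length R (R ⧸ A) := by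
  obtain ⟨a, rfl⟩ := (IsPrincipalIdealRing.principal A).principal
  obtain ⟨j, rfl⟩ := (IsPrincipalIdealRing.principal J).principal
  obtain ⟨π, hπ⟩ := (IsPrincipalIdealRing.principal (maximalIdeal R)).principal
  have ha : a ≠ 0 := fun h0 => hA (by simp [h0])
  have hπ0 : π ≠ 0 := fun h0 => hR (IsLocalRing.isField_iff_maximalIdeal_eq.2 (by simp [hπ, h0]))
  haveI : Ring.KrullDimLE 1 R := inferInstance
  have hfin : Ring.ord R a ≠ ⊤ := by
    rw [Ring.ord]
    haveI : IsFiniteLength R (R ⧸ Ideal.span {a}) :=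
      isFiniteLength_quotient_span_singleton R (mem_nonZeroDivisors_of_ne_zero ha)
    exact Module.length_ne_top_iff.2 this
  refine ⟨hfin, ?_⟩
  have hπ1 : Ring.ord R π = 1 := by
    rw [Ring.ord, show Ideal.span {π} = maximalIdeal R from hπ.symm]
    haveI : IsSimpleModule R (R ⧸ maximalIdeal R) :=
      isSimpleModule_iff_isCoatom.2 (Ideal.isMaximal_def.1 inferInstance)
    exact Module.length_eq_one R _
  have hle : Ideal.span {a} ≤ Ideal.span {j * π} := by
    rw [← Ideal.span_singleton_mul_span_singleton, show Ideal.span {π} = maximalIdeal R from hπ.symm]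
    exact h
  calc Module.length R (R ⧸ Ideal.span {j}) + 1 = Ring.ord R (j * π) := by
        rw [Ring.ord_mul R (mem_nonZeroDivisors_of_ne_zero hπ0), hπ1]
        rfl
    _ ≤ Module.length R (R ⧸ Ideal.span {a}) :=
        Module.length_le_of_surjective (Submodule.factor hle) (Submodule.factor_surjective hle)

end Groth.Agent.CurveSep
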