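import Groth.Agent.CurveSep.Residual
import Groth.Agent.CurveSep.Length
import Groth.Agent.ResolveCurve.Embedded

/-!
Strict transform of a curve regular at the centre of a point blow-up.
-/

set_option autoImplicit false
set_option backward.isDefEq.respectTransparency false
set_option backward.isDefEq.respectTransparency.types false
set_option linter.style.haveILetI false
set_option linter.unusedSectionVars false

universe u

open CategoryTheory CategoryTheory.Limits AlgebraicGeometry TopologicalSpace

noncomputable section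

namespace Groth.Agent.CurveSep

/-- colength of the stalk of an ideal sheaf -/
abbrev colen {X : Scheme.{u}} (D : X.IdealSheafData) (x : X) : ℕ∞ :=
  Module.length (X.presheaf.stalk x) (X.presheaf.stalk x ⧸ IntMult.stalkIdeal D x)

/-- the reduced closed point -/
abbrev vp {X : Scheme.{u}} {p : X} (hp : IsClosed ({p} : Set X)) : X.IdealSheafData :=
  Scheme.IdealSheafData.vanishingIdeal ⟨{p}, hp⟩

theorem coe_support_vp {X : Scheme.{u}} {p : X} (hp : IsClosed ({p} : Set X)) :
    ((vp hp).support : Set X) = {p} := by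
  simp [vp]

theorem le_vp {X : Scheme.{u}} {p : X} (hp : IsClosed ({p} : Set X)) {I : X.IdealSheafData} (h : p ∈ I.support) :
    I ≤ vp hp :=
  Scheme.IdealSheafData.le_support_iff_le_vanishingIdeal.1 fun x hx => (Set.mem_singleton_iff.1 hx) ▸ h

theorem mem_support_vp_comap {X Y : Scheme.{u}} (g : Y ⟶ X) {p : X} (hp : IsClosed ({p} : Set X)) {y : Y} :
    y ∈ ((vp hp).comap g).support ↔ g y = p := by
  rw [Scheme.IdealSheafData.support_comap]
  show g y ∈ ((vp hp).support : Set X) ↔ _
  rw [coe_support_vp hp, Set.mem_singleton_iff]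

theorem stalk_ne_bot {C : Scheme.{u}} [IsIntegral C] {D : C.IdealSheafData} (hD : genericPoint C ∉ D.support) (c : C) :
    IntMult.stalkIdeal D c ≠ ⊥ := by
  intro h0
  obtain ⟨U, hU, hcU, -⟩ := exists_isAffineOpen_mem_and_subset (x := c) (U := (⊤ : C.Opens)) trivial
  rw [sI_chart D c ⟨U, hU⟩ hcU, Ideal.map_eq_bot_iff_le_ker] at h0
  have hη : genericPoint C ∈ U := (genericPoint_specializes c).mem_open U.isOpen hcU
  have hU0 : D.ideal ⟨U, hU⟩ = ⊥ := eq_bot_iff.2 fun s hs =>
    germ_injective_of_isIntegral C c hcU ((RingHom.mem_ker.1 (h0 hs)).trans (map_zero _).symm)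
  refine hD ((D.mem_support_iff_of_mem (U := ⟨U, hU⟩) hη).2 ?_)
  rw [hU0]
  simp [Scheme.zeroLocus_def]

variable {C X : Scheme.{u}} [IsLocallyNoetherian X] (ι : C ⟶ X) [IsClosedImmersion ι] [IsIntegral C]
  {p : X} (hp : IsClosed ({p} : Set X)) (hdim : topologicalKrullDim C ≤ 1) (hne : ∃ c, ι c ≠ p)
  (hreg : ∀ c, ι c = p → IsRegularLocalRing (C.presheaf.stalk c))

include hp hne in
theorem gen_ne : ι (genericPoint C) ≠ p := fun h => by
  obtain ⟨c, hc⟩ := hne
  have := ((genericPoint_specializes c).map ι.continuous).mem_closed hp h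
  exact hc this

include hdim hne hreg in
theorem cartier_comap_vp : BlowUp.IsEffCartierIdeal ((vp hp).comap ι) := by
  haveI : IsLocallyNoetherian C := LocallyOfFiniteType.isLocallyNoetherian ι
  refine S1570.result C _ fun x hx U hxU => ?_
  haveI := ResolveCurve.isPrincipalIdealRing_stalk hdim (hreg x ((mem_support_vp_comap ι hp).1 hx))
  let J := (((vp hp).comap ι).ideal U).map (C.presheaf.germ U.1 x hxU).hom
  refine ⟨Submodule.IsPrincipal.generator J, mem_nonZeroDivisors_of_ne_zero fun h0 => ?_,
    (Ideal.span_singleton_generator J).symm⟩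
  refine stalk_ne_bot (fun h => gen_ne ι hp hne ((mem_support_vp_comap ι hp).1 h)) x ?_
  rw [sI_chart _ x U hxU]
  exact (Submodule.IsPrincipal.eq_bot_iff_generator_eq_zero J).2 h0

variable {X' : Scheme.{u}} {b : X' ⟶ X} (hb : BlowUp.IsBlowUp b (vp hp))

include hb in
theorem isProper_b : IsProper b :=
  BlowUpExist.isProper_of_isFiniteType hb fun U => by
    haveI : IsNoetherianRing Γ(X, U.1) := IsLocallyNoetherian.component_noetherian U
    exact IsNoetherian.noetherian _

include hdim hne hreg hb in
theorem exists_lift : ∃ ι' : C ⟶ X', ι' ≫ b = ι ∧ IsClosedImmersion ι' := by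
  obtain ⟨ι', h, -⟩ := hb.2 C ι (cartier_comap_vp ι hp hdim hne hreg)
  haveI := isProper_b hp hb
  haveI : IsClosedImmersion (ι' ≫ b) := by rw [h]; infer_instance
  exact ⟨ι', h, IsClosedImmersion.of_comp ι' b⟩

/-- A point of the curve over the centre meets the exceptional divisor with multiplicity one. -/
theorem stalk_exceptional {ι' : C ⟶ X'} (hι : ι' ≫ b = ι) {c : C} (hc : ι c = p) :
    IntMult.stalkIdeal (((vp hp).comap b).comap ι') c = IsLocalRing.maximalIdeal _ := by
  rw [← Scheme.IdealSheafData.comap_comp, hι, sI_comap]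
  subst hc
  rw [sI_point hp]
  exact IsLocalRing.map_maximalIdeal_of_surjective _ (ι.stalkMap_surjective c)

include hdim hne hreg in
/-- The residual of a closed subscheme `D` meets the lifted curve with smaller multiplicity. -/
theorem length_lt {ι' : C ⟶ X'} (hι : ι' ≫ b = ι) (hbE : BlowUp.IsEffCartierIdeal ((vp hp).comap b))
    {T : Scheme.{u}} (h : T ⟶ X') [QuasiCompact h]
    (hT : BlowUp.IsEffCartierIdeal (((vp hp).comap b).comap h)) {D : X.IdealSheafData} (hD : p ∈ D.support)
    (hDh : D.comap b ≤ h.ker) (hgen : ι (genericPoint C) ∉ D.support) {c : C} (hc : ι c = p) :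
    colen (D.comap ι) c ≠ ⊤ ∧ colen (h.ker.comap ι') c + 1 ≤ colen (D.comap ι) c := by
  haveI : IsLocallyNoetherian C := LocallyOfFiniteType.isLocallyNoetherian ι
  haveI := ResolveCurve.isPrincipalIdealRing_stalk hdim (hreg c hc)
  refine length_mul_max (fun hf => ?_) (stalk_ne_bot (fun hg => ?_) c) ?_
  · refine stalk_ne_bot (D := (vp hp).comap ι) (fun h => gen_ne ι hp hne ((mem_support_vp_comap ι hp).1 h)) c ?_
    rw [sI_comap]
    subst hc
    rw [sI_point hp]
    exact (IsLocalRing.map_maximalIdeal_of_surjective _ (ι.stalkMap_surjective c)).trans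
      (IsLocalRing.isField_iff_maximalIdeal_eq.1 hf)
  · rw [Scheme.IdealSheafData.support_comap] at hg
    exact hgen hg
  · have h1 : D.comap b ≤ h.ker * (vp hp).comap b :=
      le_mul_of_le hbE h hT (Scheme.IdealSheafData.comap_mono _ (le_vp hp hD)) hDh
    have h2 := sI_mono (Scheme.IdealSheafData.comap_mono ι' h1) c
    simp only at h2
    rw [← Scheme.IdealSheafData.comap_comp, hι, BlowUpLib.comap_mul, sI_mul, stalk_exceptional ι hp hι hc] at h2
    exact h2

end Groth.Agent.CurveSep
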