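import Groth.Agent.CurveSep.Config
import Groth.Agent.PtBlow.Rational
import Groth.Agent.PtBlow.ExcDescend
import Groth.Agent.Horrocks.Dim
import Groth.Agent.CycPB.BundleSmooth
import Groth.Agent.ExtFund.SmoothDual
import Groth.Agent.S10829

/-!
Point blow-ups of regular surfaces: properties and contracted curves.
-/

set_option autoImplicit false
set_option backward.isDefEq.respectTransparency false
set_option backward.isDefEq.respectTransparency.types false
set_option linter.style.haveILetI false

universe u

open CategoryTheory CategoryTheory.Limits AlgebraicGeometry TopologicalSpace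

noncomputable section

namespace Groth.Agent.CurveSep

/-- The exceptional divisor of the blow-up of a regular surface point is a regular curve. -/
theorem exists_excCurve {X X' : Scheme.{u}} [IsNoetherian X] {p : X} (hp : PtBlow.IsRegPt X p) {b : X' ⟶ X}
    (hb : BlowUp.IsBlowUp b (PtBlow.pt hp)) :
    ∃ (E : Scheme.{u}) (e : E ⟶ X'), IsRegCurve e ∧ e.ker = (vp hp.closed).comap b ∧ Set.range e = b ⁻¹' {p} := by
  obtain ⟨k, hk, e, he, -, -, hker, hr, -⟩ := PtBlow.exists_contraction'' hp hb
  refine ⟨_, e, ⟨he, Horrocks.isIntegral_projSpace, Groth.Agent.S10829.result k 1, fun c => ?_⟩, hker, hr⟩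
  haveI : Smooth (CohB1.ProjSpace.toSpec 1 k) := CycPB.smooth_toSpec 1 k
  refine GeomProp.regular_stalk_of_mem_smoothLocus (CohB1.ProjSpace.toSpec 1 k) ?_
  rw [Scheme.Hom.smoothLocus_eq_top_iff.2 inferInstance]
  trivial

theorem isIso_of_cartier {X X' : Scheme.{u}} {b : X' ⟶ X} {I : X.IdealSheafData} (hb : BlowUp.IsBlowUp b I)
    (hI : BlowUp.IsEffCartierIdeal I) : IsIso b := by
  obtain ⟨h, hh, -⟩ := hb.2 X (𝟙 X) (by rwa [Scheme.IdealSheafData.comap_id])
  obtain ⟨h', -, huniq⟩ := hb.2 X' b hb.1
  exact ⟨h, (huniq (b ≫ h) (by simp [hh])).trans (huniq (𝟙 X') (by simp)).symm, hh⟩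

/-- A closed point of a regular surface is regular of dimension two or a Cartier divisor. -/
theorem isRegPt_or_cartier {Z : Scheme.{u}} [IsIntegral Z] [IsLocallyNoetherian Z]
    (hreg : ∀ z : Z, IsRegularLocalRing (Z.presheaf.stalk z)) (hdim : topologicalKrullDim Z ≤ 2) {z : Z}
    (hz : IsClosed ({z} : Set Z)) (hne : z ≠ genericPoint Z) :
    PtBlow.IsRegPt Z z ∨ BlowUp.IsEffCartierIdeal (vp hz) := by
  by_cases h2 : ringKrullDim (Z.presheaf.stalk z) = 2
  · exact Or.inl ⟨hz, hreg z, h2⟩
  refine Or.inr (S1570.result Z _ fun x hx U hxU => ?_)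
  obtain rfl : x = z := by
    have h' : x ∈ ((vp hz).support : Set Z) := hx
    rwa [coe_support_vp hz] at h'
  have h1 : ringKrullDim (Z.presheaf.stalk x) ≤ 1 := by
    have hle := (RegDual.ringKrullDim_stalk_le_topologicalKrullDim x).trans hdim
    have hlt := lt_of_le_of_ne hle h2
    generalize ringKrullDim (Z.presheaf.stalk x) = d at hlt ⊢
    induction d with
    | bot => exact bot_le
    | coe d =>
      have h3 : d < (1 : ℕ∞) + 1 := by
        rw [one_add_one_eq_two]
        exact WithBot.coe_lt_coe.1 hlt
      exact_mod_cast (ENat.lt_add_one_iff (by simp)).1 h3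
  obtain ⟨_, _⟩ := RatExt.domain_valuationRing_of_regular (hreg x) h1
  haveI : IsPrincipalIdealRing (Z.presheaf.stalk x) := inferInstance
  let J := ((vp hz).ideal U).map (Z.presheaf.germ U.1 x hxU).hom
  refine ⟨Submodule.IsPrincipal.generator J, mem_nonZeroDivisors_of_ne_zero fun h0 => ?_,
    (Ideal.span_singleton_generator J).symm⟩
  refine stalk_ne_bot (D := vp hz) (fun hg => ?_) x ?_
  · have h' : genericPoint Z ∈ ((vp hz).support : Set Z) := hg
    rw [coe_support_vp hz] at h'
    exact hne (Set.mem_singleton_iff.1 h').symm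
  · rw [sI_chart _ x U hxU]
    exact (Submodule.IsPrincipal.eq_bot_iff_generator_eq_zero J).2 h0

theorem eq_of_off_centre {X X' : Scheme.{u}} {b : X' ⟶ X} {p : X} {hp : IsClosed ({p} : Set X)}
    (hb : BlowUp.IsBlowUp b (vp hp)) {y y' : X'} (hy : b y ≠ p) (he : b y = b y') : y = y' := by
  haveI := BlowUpLib.isIso_restrict hb
  have hmem : ∀ z : X', b z ≠ p → b z ∈ (vp hp).support.compl := fun z hz => by
    show b z ∉ ((vp hp).support : Set X)
    rw [coe_support_vp hp]; exact hz
  have := (b ∣_ (vp hp).support.compl).homeomorph.injective (a₁ := ⟨y, hmem y hy⟩)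
    (a₂ := ⟨y', hmem y' (he ▸ hy)⟩) (Subtype.ext (by simpa using he))
  exact congrArg Subtype.val this

theorem isClosed_of_off_centre {X X' : Scheme.{u}} {b : X' ⟶ X} {p : X} {hp : IsClosed ({p} : Set X)}
    (hb : BlowUp.IsBlowUp b (vp hp)) {y : X'} (hy : b y ≠ p) (hc : IsClosed ({b y} : Set X)) :
    IsClosed ({y} : Set X') := by
  have : ({y} : Set X') = b ⁻¹' {b y} := Set.ext fun z =>
    ⟨fun e => e ▸ rfl, fun e => (eq_of_off_centre hb hy (Set.mem_singleton_iff.1 e).symm).symm⟩
  rw [this]
  exact hc.preimage b.continuous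

/-- Facts along a sequence of point blow-ups of a regular surface: the properties persist, contracted curves are
regular, and non-closed points are determined by their images. -/
theorem seq_facts {X' X : Scheme.{u}} {g : X' ⟶ X} (hg : Resolve.IsPtBlowupSeq g) :
    ∀ [IsIntegral X] [IsNoetherian X], (∀ x : X, IsRegularLocalRing (X.presheaf.stalk x)) →
      topologicalKrullDim X ≤ 2 → ¬ IsClosed ({genericPoint X} : Set X) →
    IsIntegral X' ∧ IsNoetherian X' ∧ (∀ x : X', IsRegularLocalRing (X'.presheaf.stalk x)) ∧
      topologicalKrullDim X' ≤ 2 ∧ IsProper g ∧ (∃ V : X.Opens, (V : Set X).Nonempty ∧ IsIso (g ∣_ V)) ∧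
      (∀ y y' : X', ¬ IsClosed ({g y} : Set X) → g y = g y' → y = y') ∧
      ∀ y : X', IsClosed ({g y} : Set X) → ¬ IsClosed ({y} : Set X') →
        ∃ (E : Scheme.{u}) (e : E ⟶ X') (_ : IsRegCurve e), closure {y} = Set.range e := by
  induction hg with
  | @iso W X e =>
    intro _ _ hX hdim _
    haveI : Nonempty W := ⟨e.inv (genericPoint X)⟩
    haveI : IsIntegral W := isIntegral_of_isOpenImmersion e.hom
    haveI : IsNoetherian W := isNoetherian_of_proper e.hom
    refine ⟨inferInstance, inferInstance, fun w => ?_, ?_, inferInstance, ⟨⊤, ⟨genericPoint X, trivial⟩, inferInstance⟩,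
      fun y y' _ h => e.hom.homeomorph.injective h, fun y hy hny => ?_⟩
    · haveI := hX (e.hom w)
      exact IsRegularLocalRing.of_ringEquiv (asIso (e.hom.stalkMap w)).commRingCatIsoToRingEquiv
    · rwa [e.hom.homeomorph.isHomeomorph.topologicalKrullDim_eq]
    · refine absurd ?_ hny
      have : ({y} : Set W) = e.hom ⁻¹' {e.hom y} := Set.ext fun z =>
        ⟨fun h => h ▸ rfl, fun h => e.hom.homeomorph.injective (Set.mem_singleton_iff.1 h)⟩
      rw [this]
      exact hy.preimage e.hom.continuous
  | @step Y Z X b r z hz hb hr ih =>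
    intro _ _ hX hdim hnc
    obtain ⟨hZi, hZN, hZr, hZd, hrp, hbir, hinj, hcur⟩ := ih hX hdim hnc
    haveI := hZi
    haveI := hZN
    haveI := hrp
    have hrη : r (genericPoint Z) = genericPoint X := by
      obtain ⟨V, hV, hVr⟩ := hbir
      haveI := hVr
      exact ResolveCurve.genericPoint_image r hV
    have hzne : z ≠ genericPoint Z := fun e => hnc (by
      rw [← hrη, ← e]; exact ResolveCurve.isClosed_image r hz)
    haveI : IsProper b := isProper_b hz hb
    haveI := W7Fib.isIntegral_blowUp (ResolveCurve.vanishingIdeal_ne_bot hzne.symm hz) hb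
    haveI := isNoetherian_of_proper b
    obtain ⟨V, hV, hVr⟩ := hbir
    haveI := hVr
    have hηV : genericPoint X ∈ V := (genericPoint_specializes hV.some).mem_open V.isOpen hV.some_mem
    let W : X.Opens := ⟨({r z} : Set X)ᶜ, (ResolveCurve.isClosed_image r hz).isOpen_compl⟩
    have hbir' : ∃ V : X.Opens, (V : Set X).Nonempty ∧ IsIso ((b ≫ r) ∣_ V) := by
      refine ⟨V ⊓ W, ⟨genericPoint X, hηV, fun e => hnc ?_⟩, ?_⟩
      · rw [show genericPoint X = r z from e]; exact ResolveCurve.isClosed_image r hz
      · haveI : IsIso (r ∣_ (V ⊓ W)) := PtBlow.isIso_restrict_le r inf_le_left hVr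
        haveI : IsIso (b ∣_ (r ⁻¹ᵁ (V ⊓ W))) := PtBlow.isIso_restrict_le b (V := (vp hz).support.compl) (fun w hw => by
          show w ∉ ((vp hz).support : Set Z)
          rw [coe_support_vp hz]
          intro h
          exact hw.2 (congrArg r (h : w = z))) (BlowUpLib.isIso_restrict hb)
        rw [morphismRestrict_comp]
        infer_instance
    refine ⟨inferInstance, inferInstance, ?_, ?_, inferInstance, hbir', fun y y' hy he => ?_, fun y hy hny => ?_⟩
    · rcases isRegPt_or_cartier hZr hZd hz hzne with h | h
      · exact PtBlow.isRegular_blowUp h hb hZr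
      · haveI := isIso_of_cartier hb h
        exact fun w => by
          haveI := hZr (b w)
          exact IsRegularLocalRing.of_ringEquiv (asIso (b.stalkMap w)).commRingCatIsoToRingEquiv
    · exact PtBlow.dim_le_of_birational (n := 2) (b ≫ r) hbir' hdim
    · have hby : b y ≠ z := fun e => hy (by
        rw [Scheme.Hom.comp_apply, e]; exact ResolveCurve.isClosed_image r hz)
      exact eq_of_off_centre hb hby (hinj _ _ hy he)
    · rcases isRegPt_or_cartier hZr hZd hz hzne with h | h
      · obtain ⟨E, e, he, -, her⟩ := exists_excCurve h hb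
        haveI := he.closedImmersion
        haveI := he.integral
        by_cases hby : b y = z
        · obtain ⟨c, rfl⟩ : y ∈ Set.range e := her.symm.subset hby
          refine ⟨E, e, he, ?_⟩
          have hc : c = genericPoint E := by
            by_contra hne
            exact hny (he.exists_ne_gen hne).2
          rw [hc, ← Set.image_singleton, e.isClosedEmbedding.closure_image_eq, (genericPoint_spec E).def,
            Set.image_univ]
        · obtain ⟨E', e', he', her'⟩ := hcur (b y) hy fun hc => hny (isClosed_of_off_centre hb hby hc)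
          obtain ⟨e2, h2, hr2⟩ := he'.exists_lift hb
          haveI := hr2.closedImmersion
          haveI := hr2.integral
          haveI := he'.closedImmersion
          refine ⟨E', e2, hr2, ?_⟩
          obtain ⟨c, hc⟩ : b y ∈ Set.range e' := her'.subset (subset_closure rfl)
          have hyc : e2 c = y := eq_of_off_centre hb
            (show b (e2 c) ≠ z by rw [← Scheme.Hom.comp_apply, h2, hc]; exact hby)
            (by rw [← Scheme.Hom.comp_apply, h2, hc])
          have hcg : c = genericPoint E' := by
            by_contra hne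
            exact hny (hyc ▸ (hr2.exists_ne_gen hne).2)
          rw [← hyc, hcg, ← Set.image_singleton, e2.isClosedEmbedding.closure_image_eq, (genericPoint_spec E').def,
            Set.image_univ]
      · haveI := isIso_of_cartier hb h
        obtain ⟨E', e', he', her'⟩ := hcur (b y) hy fun hc => hny (by
          have : ({y} : Set Y) = b ⁻¹' {b y} := Set.ext fun w =>
            ⟨fun e => e ▸ rfl, fun e => b.homeomorph.injective (Set.mem_singleton_iff.1 e)⟩
          rw [this]; exact hc.preimage b.continuous)
        haveI := he'.closedImmersion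
        refine ⟨E', e' ≫ inv b, ⟨inferInstance, he'.integral, he'.dim, he'.reg⟩, ?_⟩
        have hbb : ∀ w, (inv b) (b w) = w := fun w => by rw [← Scheme.Hom.comp_apply, IsIso.hom_inv_id]; rfl
        rw [← hbb y, ← Set.image_singleton, (inv b).isClosedEmbedding.closure_image_eq, her']
        exact (Set.range_comp _ _).symm

end Groth.Agent.CurveSep
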