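import Groth.Agent.CurveSep.Colength
import Groth.Agent.CurveSep.ColenSheaf
import Groth.Agent.CurveSep.Surface
import Groth.Agent.PtBlow.Step
import Groth.Agent.RZExt.Descend

/-!
Blowing up improves the colength.
-/

set_option autoImplicit false
set_option backward.isDefEq.respectTransparency false
set_option backward.isDefEq.respectTransparency.types false
set_option linter.style.haveILetI false

universe u

open CategoryTheory CategoryTheory.Limits AlgebraicGeometry TopologicalSpace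

noncomputable section

namespace Groth.Agent.CurveSep

theorem cancel_mul {X : Scheme.{u}} {E P Q : X.IdealSheafData} (hE : BlowUp.IsEffCartierIdeal E)
    (h : P * E = Q * E) : P = Q := by
  choose U hU f hf he using hE
  refine Scheme.IdealSheafData.ext_of_iSup_eq_top U (eq_top_iff.2 fun x _ => Opens.mem_iSup.2 ⟨x, hU x⟩) fun x => ?_
  have h' := congrArg (fun K : X.IdealSheafData => K.ideal (U x)) h
  simp only [Scheme.IdealSheafData.ideal_mul, Pi.mul_apply, he x] at h'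
  have key : ∀ {P Q : Ideal Γ(X, (U x).1)}, P * Ideal.span {f x} ≤ Q * Ideal.span {f x} → P ≤ Q := by
    intro P Q h r hr
    obtain ⟨s, hs, hsr⟩ := Ideal.mem_mul_span_singleton.1 (h (Ideal.mul_mem_mul hr (Ideal.mem_span_singleton_self _)))
    exact (mul_cancel_right_mem_nonZeroDivisors (hf x)).1 hsr ▸ hs
  exact le_antisymm (key h'.le) (key h'.ge)

theorem mul_pow_succ_le {X : Scheme.{u}} (P E : X.IdealSheafData) (k : ℕ) : P * E ^ (k + 1) ≤ E := fun U => by
  rw [Scheme.IdealSheafData.ideal_mul, Pi.mul_apply, Scheme.IdealSheafData.ideal_pow, Pi.pow_apply]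
  exact Ideal.mul_le_right.trans (Ideal.pow_le_self (Nat.succ_ne_zero k))

theorem mul_pow_le {X : Scheme.{u}} (P E : X.IdealSheafData) {k l : ℕ} (h : l ≤ k) : P * E ^ k ≤ E ^ l := fun U => by
  rw [Scheme.IdealSheafData.ideal_mul, Pi.mul_apply, Scheme.IdealSheafData.ideal_pow, Scheme.IdealSheafData.ideal_pow,
    Pi.pow_apply, Pi.pow_apply]
  exact Ideal.mul_le_right.trans (Ideal.pow_le_pow_right h)

theorem eq_of_two_residuals {X : Scheme.{u}} {E P Q : X.IdealSheafData} {a c : ℕ} (hE : BlowUp.IsEffCartierIdeal E)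
    (h : P * E ^ a = Q * E ^ c) (hP : ¬ P ≤ E) (hQ : ¬ Q ≤ E) : a = c ∧ P = Q := by
  have key : ∀ {P Q : X.IdealSheafData} {a c : ℕ}, P * E ^ a = Q * E ^ c → ¬ P ≤ E → c ≤ a := by
    intro P Q a c h hP
    by_contra hlt
    push Not at hlt
    have h1 : P * E ^ a = (Q * E ^ (c - a)) * E ^ a := by
      rw [h]
      refine Scheme.IdealSheafData.ext ?_
      funext U
      simp only [Scheme.IdealSheafData.ideal_mul, Pi.mul_apply, Scheme.IdealSheafData.ideal_pow, Pi.pow_apply]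
      rw [mul_assoc, ← pow_add, Nat.sub_add_cancel hlt.le]
    refine hP ((cancel_mul (RZExt.cartier_pow hE a) h1).trans_le ?_)
    rw [show c - a = (c - a - 1) + 1 by omega]
    exact mul_pow_succ_le _ _ _
  have hac : a = c := le_antisymm (key h.symm hQ) (key h hP)
  subst hac
  exact ⟨rfl, cancel_mul (RZExt.cartier_pow hE a) h⟩

theorem idealSheaf_top (A : Type u) [CommRing A] (I : Ideal A) :
    (Curv2.idealSheaf A I).ideal ⟨⊤, isAffineOpen_top _⟩ = I.map (Scheme.ΓSpecIso (CommRingCat.of A)).inv.hom := by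
  have h5 := Scheme.IdealSheafData.equivOfIsAffine.apply_symm_apply (I.map (Scheme.ΓSpecIso (CommRingCat.of A)).inv.hom)
  rw [Scheme.IdealSheafData.equivOfIsAffine_symm_apply, Scheme.IdealSheafData.equivOfIsAffine_apply] at h5
  rw [Curv2.idealSheaf]
  exact h5

theorem mem_support_idealSheaf (A : Type u) [CommRing A] (I : Ideal A) (z : Spec (CommRingCat.of A)) :
    z ∈ (Curv2.idealSheaf A I).support ↔ I ≤ z.asIdeal := by
  let eA := (Scheme.ΓSpecIso (CommRingCat.of A)).symm.commRingCatIsoToRingEquiv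
  rw [← SetLike.mem_coe, Curv2.idealSheaf, Scheme.IdealSheafData.coe_support_ofIdealTop, Spec_zeroLocus,
    PrimeSpectrum.mem_zeroLocus]
  refine ⟨fun h a ha => h (Ideal.mem_map_of_mem _ ha), fun h f hf => ?_⟩
  have hf' : (Scheme.ΓSpecIso (CommRingCat.of A)).inv.hom f ∈ I.map (Scheme.ΓSpecIso (CommRingCat.of A)).inv.hom := hf
  obtain ⟨g, hg, hgf⟩ := (Ideal.mem_map_iff_of_surjective _ eA.surjective).1 hf'
  exact (eA.injective hgf : g = f) ▸ h hg

/-- The locus of the second chart where its coordinate is invertible lies in the first chart. -/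
theorem basicOpen_le_chart {S X : Scheme.{u}} [IsAffine S] {b : X ⟶ S} {I : S.IdealSheafData}
    (hb : BlowUp.IsBlowUp b I) {x y : Γ(S, ⊤)} (G₀ G₁ : X.affineOpens) (h₀le : G₀.1 ≤ b ⁻¹ᵁ ⊤) (h₁le : G₁.1 ≤ b ⁻¹ᵁ ⊤)
    {τ : Γ(X, G₀.1)} {σ : Γ(X, G₁.1)}
    (h₀ : letI := (b.appLE ⊤ G₀.1 h₀le).hom.toAlgebra; PtBlow.Chart x y Γ(X, G₀.1) τ)
    (h₁ : letI := (b.appLE ⊤ G₁.1 h₁le).hom.toAlgebra; PtBlow.Chart y x Γ(X, G₁.1) σ) :
    X.basicOpen σ ≤ G₀.1 := by
  letI := (b.appLE ⊤ G₀.1 h₀le).hom.toAlgebra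
  letI := (b.appLE ⊤ G₁.1 h₁le).hom.toAlgebra
  let U : X.Opens := X.basicOpen σ
  have hUG : U ≤ G₁.1 := X.basicOpen_le σ
  have hU : IsAffineOpen U := G₁.2.basicOpen σ
  let res : Γ(X, G₁.1) →+* Γ(X, U) := (X.presheaf.map (homOfLE hUG).op).hom
  obtain ⟨v, hv⟩ : ∃ v : Γ(X, U), res σ * v = 1 :=
    (RingedSpace.isUnit_res_basicOpen X.toRingedSpace σ).exists_right_inv
  letI : Algebra Γ(S, ⊤) Γ(X, U) := (b.appLE ⊤ U le_top).hom.toAlgebra
  have hres : ∀ c, res (algebraMap Γ(S, ⊤) Γ(X, G₁.1) c) = algebraMap Γ(S, ⊤) Γ(X, U) c := fun c =>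
    congr($(Scheme.Hom.appLE_map b h₁le (homOfLE hUG).op).hom c)
  have hker : ∀ g : Polynomial Γ(S, ⊤), Polynomial.aeval τ g = 0 → Polynomial.aeval v g = 0 := by
    intro g hg
    let n := g.natDegree
    have h0 : PtBlow.hom x y n g = 0 := h₀.inj (by rw [h₀.map_hom le_rfl, hg, mul_zero, map_zero])
    have h1 : ∑ j ∈ Finset.range (n + 1), algebraMap Γ(S, ⊤) Γ(X, G₁.1) (g.coeff j) * σ ^ (n - j) = 0 := by
      refine (mem_nonZeroDivisors_iff_right.1 (pow_mem h₁.nzd n)) _ ?_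
      rw [mul_comm, ← show algebraMap Γ(S, ⊤) Γ(X, G₁.1) (PtBlow.hom x y n g) =
          algebraMap Γ(S, ⊤) Γ(X, G₁.1) y ^ n *
            ∑ j ∈ Finset.range (n + 1), algebraMap Γ(S, ⊤) Γ(X, G₁.1) (g.coeff j) * σ ^ (n - j) by
        rw [PtBlow.hom, map_sum, Finset.mul_sum]
        refine Finset.sum_congr rfl fun j hj => ?_
        have hj' : j ≤ n := Nat.lt_succ_iff.1 (Finset.mem_range.1 hj)
        rw [map_mul, map_mul, map_pow, map_pow, h₁.rel, mul_pow,
          show algebraMap Γ(S, ⊤) Γ(X, G₁.1) y ^ n =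
              algebraMap Γ(S, ⊤) Γ(X, G₁.1) y ^ j * algebraMap Γ(S, ⊤) Γ(X, G₁.1) y ^ (n - j) by
            rw [← pow_add, Nat.add_sub_cancel' hj']]
        ring, h0, map_zero]
    have h2 := congrArg (fun z => v ^ n * res z) h1
    simp only [map_zero, mul_zero, map_sum, Finset.mul_sum] at h2
    rw [Polynomial.aeval_eq_sum_range, ← h2]
    refine Finset.sum_congr rfl fun j hj => ?_
    have hj' : j ≤ n := Nat.lt_succ_iff.1 (Finset.mem_range.1 hj)
    rw [map_mul, map_pow, hres, Algebra.smul_def,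
      show v ^ n = v ^ j * v ^ (n - j) by rw [← pow_add, Nat.add_sub_cancel' hj'],
      show v ^ j * v ^ (n - j) * (algebraMap Γ(S, ⊤) Γ(X, U) (g.coeff j) * res σ ^ (n - j)) =
        algebraMap Γ(S, ⊤) Γ(X, U) (g.coeff j) * v ^ j * (res σ * v) ^ (n - j) by ring, hv, one_pow, mul_one]
  let ψ : Γ(X, G₀.1) →+* Γ(X, U) :=
    RingHom.liftOfSurjective (Polynomial.aeval τ).toRingHom h₀.gen
      ⟨(Polynomial.aeval v).toRingHom, fun g hg => RingHom.mem_ker.2 (hker g (RingHom.mem_ker.1 hg))⟩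
  have hψ : b.appLE ⊤ G₀.1 h₀le ≫ CommRingCat.ofHom ψ = b.appLE ⊤ U le_top := by
    ext c
    show ψ (algebraMap Γ(S, ⊤) Γ(X, G₀.1) c) = algebraMap Γ(S, ⊤) Γ(X, U) c
    have := RingHom.liftOfRightInverse_comp_apply (Polynomial.aeval τ).toRingHom _
      (Function.rightInverse_surjInv h₀.gen)
      ⟨(Polynomial.aeval v).toRingHom, fun g hg => RingHom.mem_ker.2 (hker g (RingHom.mem_ker.1 hg))⟩ (Polynomial.C c)
    simp only [AlgHom.toRingHom_eq_coe, RingHom.coe_coe, Polynomial.aeval_C] at this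
    exact this
  let h : U.toScheme ⟶ X := hU.isoSpec.hom ≫ Spec.map (CommRingCat.ofHom ψ) ≫ G₀.2.fromSpec
  have hh : h ≫ b = U.ι ≫ b := by
    rw [← hU.isoSpec_hom_fromSpec]
    simp only [h, Category.assoc]
    congr 1
    rw [← IsAffineOpen.SpecMap_appLE_fromSpec b (isAffineOpen_top S) G₀.2 h₀le, ← Spec.map_comp_assoc, hψ,
      ← IsAffineOpen.SpecMap_appLE_fromSpec b (isAffineOpen_top S) hU le_top]
  have hcart : BlowUp.IsEffCartierIdeal (I.comap (U.ι ≫ b)) := by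
    rw [Scheme.IdealSheafData.comap_comp]
    exact BlowUpLib.cartier_comap_flat hb.1 U.ι
  obtain ⟨l, -, huniq⟩ := hb.2 _ (U.ι ≫ b) hcart
  have heq : h = U.ι := (huniq h hh).trans (huniq U.ι rfl).symm
  intro z hz
  have hz' : z = h ⟨z, hz⟩ := by rw [heq]; rfl
  rw [hz']
  simp only [h, Scheme.Hom.comp_apply]
  exact G₀.2.range_fromSpec.le ⟨_, rfl⟩

theorem main_7360 (A : Type u) [CommRing A] [IsRegularLocalRing A] (hA : ringKrullDim A = 2) (X : Scheme.{u})
    [X.Over (Spec (CommRingCat.of A))]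
    (hb : BlowUp.IsBlowUp (X ↘ Spec (CommRingCat.of A)) (Curv2.idealSheaf A (IsLocalRing.maximalIdeal A)))
    (I : Ideal A) (n : ℕ) (hIn : IsLocalRing.maximalIdeal A ^ n ≤ I) (hIm : I ≤ IsLocalRing.maximalIdeal A) (d : ℕ)
    (I' : X.IdealSheafData)
    (hd : (Curv2.idealSheaf A I).comap (X ↘ Spec (CommRingCat.of A)) =
      I' * (Curv2.idealSheaf A (IsLocalRing.maximalIdeal A)).comap (X ↘ Spec (CommRingCat.of A)) ^ d)
    (hmax : ¬ (Curv2.idealSheaf A I).comap (X ↘ Spec (CommRingCat.of A)) ≤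
      (Curv2.idealSheaf A (IsLocalRing.maximalIdeal A)).comap (X ↘ Spec (CommRingCat.of A)) ^ (d + 1)) :
    0 < d ∧ (I'.support : Set X).Finite ∧ (∀ x ∈ (I'.support : Set X), IsClosed ({x} : Set X)) ∧
      Module.length A (Coh.HH X (ClSub.quotMod I') 0) < Module.length A (A ⧸ I) ∧
      ∑ᶠ x : ↥I'.subscheme, Module.length (I'.subscheme.presheaf.stalk x) (I'.subscheme.presheaf.stalk x) ≤
        Module.length A (Coh.HH X (ClSub.quotMod I') 0) := by
  classical
  haveI : IsDomain A := RegLoc.isDomain A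
  let S := Spec (CommRingCat.of A)
  let b : X ⟶ S := X ↘ S
  let x : S := IsLocalRing.closedPoint A
  have hxc : IsClosed ({x} : Set S) := IsLocalRing.isClosed_singleton_closedPoint A
  let eA := (Scheme.ΓSpecIso (CommRingCat.of A)).symm.commRingCatIsoToRingEquiv
  have hvan : Curv2.idealSheaf A (IsLocalRing.maximalIdeal A) = Scheme.IdealSheafData.vanishingIdeal ⟨{x}, hxc⟩ := by
    refine le_antisymm (Scheme.IdealSheafData.le_support_iff_le_vanishingIdeal.1 fun z hz => ?_) ?_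
    · obtain rfl : z = x := hz
      exact (mem_support_idealSheaf A _ _).2 le_rfl
    · haveI : ((IsLocalRing.maximalIdeal A).map (Scheme.ΓSpecIso (CommRingCat.of A)).inv.hom).IsMaximal :=
        Ideal.map_isMaximal_of_equiv eA
      haveI : IsLocalRing Γ(S, ⊤) := eA.isLocalRing
      refine Scheme.IdealSheafData.le_of_isAffine ?_
      rw [idealSheaf_top]
      refine (IsLocalRing.le_maximalIdeal (R := Γ(S, ⊤)) ?_).trans_eq ?_
      · intro htop
        have h3 : Scheme.IdealSheafData.vanishingIdeal (X := S) ⟨{x}, hxc⟩ = ⊤ :=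
          Scheme.IdealSheafData.ext_of_isAffine (by rw [htop]; rfl)
        have h4 := Scheme.IdealSheafData.coe_support_vanishingIdeal (X := S) (Z := ⟨{x}, hxc⟩)
        rw [h3, Scheme.IdealSheafData.support_top] at h4
        exact (h4.ge (rfl : x ∈ ({x} : Set _))).elim
      · exact (IsLocalRing.eq_maximalIdeal inferInstance).symm
  have hpt : PtBlow.IsRegPt S x := by
    letI : Algebra A (S.presheaf.stalk (IsLocalRing.closedPoint A)) :=
      (StructureSheaf.toStalk A (IsLocalRing.closedPoint A)).hom.toAlgebra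
    haveI : IsLocalization.AtPrime (S.presheaf.stalk (IsLocalRing.closedPoint A)) (IsLocalRing.maximalIdeal A) :=
      StructureSheaf.IsLocalization.to_stalk A (IsLocalRing.closedPoint A)
    let e := (IsLocalization.atUnits A (IsLocalRing.maximalIdeal A).primeCompl
      (S := S.presheaf.stalk (IsLocalRing.closedPoint A))
      (fun a ha => IsLocalRing.notMem_maximalIdeal.1 ha)).toRingEquiv
    exact ⟨hxc, IsRegularLocalRing.of_ringEquiv e, (ringKrullDim_eq_of_ringEquiv e).symm.trans hA⟩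
  have hb' : BlowUp.IsBlowUp b (PtBlow.pt hpt) := by
    have h := hb
    rw [hvan] at h
    exact h
  haveI : IsNoetherian S := inferInstanceAs (IsNoetherian (Spec (CommRingCat.of A)))
  haveI := PtBlow.isNoetherian_blowUp hpt hb'
  let E := (PtBlow.pt hpt).comap b
  rw [hvan] at hd hmax
  change (Curv2.idealSheaf A I).comap b = I' * E ^ d at hd
  change ¬ (Curv2.idealSheaf A I).comap b ≤ E ^ (d + 1) at hmax
  have hsupp : ∀ z ∈ (Curv2.idealSheaf A I).support, z = x := fun z hz => by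
    have h := (Ideal.IsPrime.pow_le_iff (P := z.asIdeal) (n := n) ?_).1 (hIn.trans ((mem_support_idealSheaf A I z).1 hz))
    · exact PrimeSpectrum.ext ((IsLocalRing.maximalIdeal.isMaximal A).eq_of_le z.isPrime.ne_top h).symm
    · rintro rfl
      exact z.isPrime.ne_top (top_le_iff.1 (by simpa using hIn.trans ((mem_support_idealSheaf A I z).1 hz)))
  have hxI : x ∈ (Curv2.idealSheaf A I).support := (mem_support_idealSheaf A I x).2 hIm
  have hd0 : 0 < d := Nat.pos_of_ne_zero fun h0 => hmax (by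
    subst h0
    rw [show (E ^ (0 + 1)) = E from Scheme.IdealSheafData.ext (by simp)]
    exact Scheme.IdealSheafData.comap_mono b (le_vp hxc hxI))
  have hI'E : ¬ I' ≤ E := fun hle => hmax (by
    rw [hd]
    intro U
    rw [Scheme.IdealSheafData.ideal_mul, Pi.mul_apply, Scheme.IdealSheafData.ideal_pow, Pi.pow_apply,
      Scheme.IdealSheafData.ideal_pow, Pi.pow_apply, pow_succ']
    exact Ideal.mul_mono (hle U) le_rfl)
  -- compare with the residual ideal
  obtain ⟨o, I'', hmul, hfinF, hover, hoff⟩ :=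
    PtBlow.exists_residual hpt hb' (Curv2.idealSheaf A I) hxI (O := ⊤) trivial (fun z hz _ => hsupp z hz)
  have hover' : ∀ y ∈ I''.support, b y = x := fun y hy => by
    by_contra hne
    exact hne (hsupp _ ((hoff y hne).1.1 hy))
  obtain ⟨Ec, e, hec, hek, her⟩ := exists_excCurve hpt hb'
  haveI := hec.closedImmersion
  haveI := hec.integral
  have hgnc : ¬ IsClosed ({e (genericPoint Ec)} : Set X) := fun hc => by
    refine ResolveCurve.not_isClosed_genericPoint hec.dim ?_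
    have h2 := hc.preimage e.continuous
    rwa [show e ⁻¹' {e (genericPoint Ec)} = {genericPoint Ec} from
      Set.ext fun y => ⟨fun q => e.isClosedEmbedding.injective q, fun q => congrArg e q⟩] at h2
  have hgE : e (genericPoint Ec) ∈ E.support := by
    rw [show E = e.ker from hek.symm]; exact e.range_subset_ker_support ⟨_, rfl⟩
  have hI''E : ¬ I'' ≤ E := fun hle => hgnc (by
    have hmem := Scheme.IdealSheafData.support_antitone hle hgE
    exact (hover _ hmem (hover' _ hmem)).1.closed)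
  obtain ⟨hod, rfl⟩ := eq_of_two_residuals hb'.1 (hmul.symm.trans hd) hI''E hI'E
  subst hod
  have hfinI : (I''.support : Set X).Finite := hfinF.subset fun y hy => ⟨hy, hover' y hy⟩
  have hclI : ∀ y ∈ (I''.support : Set X), IsClosed ({y} : Set X) := fun y hy => (hover y hy (hover' y hy)).1.closed
  refine ⟨hd0, hfinI, hclI, ?_⟩
  -- charts
  obtain ⟨⟨W, hWa⟩, -, hxW, hdom, hnoeth, hmax', a₀, a₁, hG⟩ :=
    PtBlow.exists_goodNbhd x hxc hpt.reg hpt.dim ⊤ trivial
  obtain rfl : W = ⊤ := eq_top_iff.2 fun z _ => (IsLocalRing.specializes_closedPoint z).mem_open W.isOpen hxW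
  let A' : Type u := Γ(S, ⊤)
  let m : Ideal A' := (PtBlow.pt hpt).ideal ⟨⊤, hWa⟩
  let J : Ideal A' := (Curv2.idealSheaf A I).ideal ⟨⊤, hWa⟩
  haveI : m.IsMaximal := hmax'
  replace hG : PtBlow.Good m a₀ a₁ := hG
  obtain ⟨G₀, G₁, hG₀, hG₁, hcov, ⟨τ, hc₀⟩, ⟨σ, hc₁⟩⟩ := PtBlow.exists_charts hb' ⟨⊤, hWa⟩ hG.span
    (hG.left_ne_zero hmax'.ne_top) (hG.symm.left_ne_zero hmax'.ne_top)
  letI : Algebra A' Γ(X, G₀.1) := (b.appLE ⊤ G₀.1 hG₀).hom.toAlgebra
  letI : Algebra A' Γ(X, G₁.1) := (b.appLE ⊤ G₁.1 hG₁).hom.toAlgebra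
  have hmJ : J = I.map (Scheme.ΓSpecIso (CommRingCat.of A)).inv.hom := idealSheaf_top A I
  have hmm : m = (IsLocalRing.maximalIdeal A).map (Scheme.ΓSpecIso (CommRingCat.of A)).inv.hom := by
    rw [← idealSheaf_top, hvan]
  have hN : m ^ n ≤ J := by
    rw [hmm, hmJ, ← Ideal.map_pow]; exact Ideal.map_mono hIn
  have hJm : J ≤ m := by rw [hmm, hmJ]; exact Ideal.map_mono hIm
  have hIc : ∀ (G : X.affineOpens) (hle : G.1 ≤ b ⁻¹ᵁ ⊤),
      ((Curv2.idealSheaf A I).comap b).ideal G = J.map (b.appLE ⊤ G.1 hle).hom := fun G hle =>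
    FpqcDescent.ideal_comap_appLE _ b ⟨⊤, hWa⟩ G hle
  have hEG : ∀ (G : X.affineOpens) (hle : G.1 ≤ b ⁻¹ᵁ ⊤), E.ideal G = m.map (b.appLE ⊤ G.1 hle).hom := fun G hle =>
    FpqcDescent.ideal_comap_appLE _ b ⟨⊤, hWa⟩ G hle
  have hJo' : ¬ J ≤ m ^ (o + 1) := fun hle => hmax fun U => by
    rw [hIc U le_top, Scheme.IdealSheafData.ideal_pow, Pi.pow_apply, hEG U le_top, ← Ideal.map_pow]
    exact Ideal.map_mono hle
  have hE₀ : E.ideal G₀ = Ideal.span {algebraMap A' Γ(X, G₀.1) a₀} := (hEG G₀ hG₀).trans (hc₀.map_eq hG)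
  have hE₁ : E.ideal G₁ = Ideal.span {algebraMap A' Γ(X, G₁.1) a₁} := (hEG G₁ hG₁).trans (hc₁.map_eq hG.symm)
  have hJo : J ≤ m ^ o := by
    by_contra hnle
    obtain ⟨k, hk, hk'⟩ : ∃ k, J ≤ m ^ k ∧ ¬ J ≤ m ^ (k + 1) := by
      by_contra hcon
      push Not at hcon
      refine hnle ?_
      have : ∀ k, J ≤ m ^ k := fun k => by
        induction k with
        | zero => simp
        | succ k ih => exact hcon k ih
      exact this o
    have hko : k < o := by
      by_contra hge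
      exact hnle (hk.trans (Ideal.pow_le_pow_right (le_of_not_gt hge)))
    obtain ⟨f, hfJ, hfo⟩ := Set.not_subset.1 hk'
    obtain ⟨p, hp, rfl⟩ := PtBlow.exists_hom hG.span k (hk hfJ)
    have h1 : Polynomial.aeval τ p ∈ Ideal.span {algebraMap A' Γ(X, G₀.1) a₀} := by
      have h2 : algebraMap A' Γ(X, G₀.1) (PtBlow.hom a₀ a₁ k p) ∈ ((Curv2.idealSheaf A I).comap b).ideal G₀ := by
        rw [hIc G₀ hG₀]; exact Ideal.mem_map_of_mem _ hfJ
      rw [hmul, Scheme.IdealSheafData.ideal_mul, Pi.mul_apply, Scheme.IdealSheafData.ideal_pow, Pi.pow_apply,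
        hE₀, Ideal.span_singleton_pow, hc₀.map_hom hp] at h2
      obtain ⟨c, hc, hcc⟩ := Ideal.mem_mul_span_singleton.1 h2
      refine Ideal.mem_span_singleton'.2 ⟨c * algebraMap A' Γ(X, G₀.1) a₀ ^ (o - (k + 1)), ?_⟩
      refine (mul_cancel_left_mem_nonZeroDivisors (pow_mem hc₀.nzd k)).1 ?_
      rw [← hcc, show algebraMap A' Γ(X, G₀.1) a₀ ^ o =
        algebraMap A' Γ(X, G₀.1) a₀ ^ (o - (k + 1)) * algebraMap A' Γ(X, G₀.1) a₀ ^ k * algebraMap A' Γ(X, G₀.1) a₀ by
          rw [mul_assoc, ← pow_succ, ← pow_add, Nat.sub_add_cancel (by omega)]]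
      ring
    obtain ⟨ee, he⟩ := hc₀.exists_quotEquiv hG
    have h3 : p.map (Ideal.Quotient.mk m) = 0 := by
      refine ee.injective ?_
      rw [he, map_zero, Ideal.Quotient.eq_zero_iff_mem]
      exact h1
    refine hfo (Ideal.sum_mem _ fun j hj => ?_)
    have hj' : j ≤ k := Nat.lt_succ_iff.1 (Finset.mem_range.1 hj)
    have h4 := Ideal.mul_mem_mul (Ideal.pow_mem_pow hG.right_mem j) (Ideal.pow_mem_pow hG.left_mem (k - j))
    rw [← pow_add, Nat.add_sub_cancel' hj'] at h4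
    rw [mul_assoc, pow_succ']
    refine Ideal.mul_mem_mul (Ideal.Quotient.eq_zero_iff_mem.1 ?_) h4
    simpa using congrArg (fun g => g.coeff j) h3
  -- the finite subscheme
  let Z := I''.subscheme
  let ι : Z ⟶ X := I''.subschemeι
  haveI : Finite Z := by
    haveI := hfinI.to_subtype
    exact Finite.of_injective (fun z => (⟨ι z, I''.range_subschemeι.subset ⟨z, rfl⟩⟩ : (I''.support : Set X)))
      fun a c h => ι.isClosedEmbedding.injective (congrArg Subtype.val h)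
  haveI : T1Space Z := ⟨fun z => by
    have h := (hclI (ι z) (I''.range_subschemeι.subset ⟨z, rfl⟩)).preimage ι.continuous
    rwa [show ι ⁻¹' {ι z} = {z} from Set.ext fun y =>
      ⟨fun q => ι.isClosedEmbedding.injective q, fun q => congrArg ι q⟩] at h⟩
  haveI : DiscreteTopology Z := Finite.instDiscreteTopology
  letI algA : Algebra A Γ(Z, ⊤) := ((ι.appTop).hom.comp (Coh.toGlobal (X ↘ Spec (CommRingCat.of A)))).toAlgebra
  rw [length_hh_quotMod I'']
  let Z₁ : Z.Opens := ⟨{z | ι z ∉ G₀.1}, isOpen_discrete _⟩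
  let Z₀ : Z.Opens := ι ⁻¹ᵁ G₀.1
  have hZ₁ : Z₁ ≤ ι ⁻¹ᵁ G₁.1 := fun z hz => (hcov (ι z) trivial).resolve_left hz
  letI : Algebra A' Γ(Z, ⊤) := (ι.appTop.hom.comp b.appTop.hom).toAlgebra
  letI : Algebra A' Γ(Z, Z₀) := (ι.app G₀.1).hom.comp (algebraMap A' Γ(X, G₀.1)) |>.toAlgebra
  letI : Algebra A' Γ(Z, Z₁) := (ι.appLE G₁.1 Z₁ hZ₁).hom.comp (algebraMap A' Γ(X, G₁.1)) |>.toAlgebra
  let ρ₀ : Γ(X, G₀.1) →ₐ[A'] Γ(Z, Z₀) := { (ι.app G₀.1).hom with commutes' := fun _ => rfl }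
  let ρ₁ : Γ(X, G₁.1) →ₐ[A'] Γ(Z, Z₁) := { (ι.appLE G₁.1 Z₁ hZ₁).hom with commutes' := fun _ => rfl }
  let K : Ideal Γ(X, G₀.1) := RingHom.ker ρ₀.toRingHom
  let L : Ideal Γ(X, G₁.1) := RingHom.ker ρ₁.toRingHom
  have hK : ∀ r, algebraMap A' Γ(X, G₀.1) a₀ ^ o * r ∈ J.map (algebraMap A' Γ(X, G₀.1)) → r ∈ K := by
    intro r hr
    rw [show J.map (algebraMap A' Γ(X, G₀.1)) = ((Curv2.idealSheaf A I).comap b).ideal G₀ from (hIc G₀ hG₀).symm,
      hmul, Scheme.IdealSheafData.ideal_mul, Pi.mul_apply, Scheme.IdealSheafData.ideal_pow, Pi.pow_apply, hE₀,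
      Ideal.span_singleton_pow] at hr
    obtain ⟨c, hc, hcc⟩ := Ideal.mem_mul_span_singleton.1 hr
    rw [mul_comm] at hcc
    rw [← (mul_cancel_left_mem_nonZeroDivisors (pow_mem hc₀.nzd o)).1 hcc]
    rw [← I''.ker_subschemeι_app G₀] at hc
    exact hc
  have hL : ∀ r, algebraMap A' Γ(X, G₁.1) a₁ ^ o * r ∈ J.map (algebraMap A' Γ(X, G₁.1)) → r ∈ L := by
    intro r hr
    rw [show J.map (algebraMap A' Γ(X, G₁.1)) = ((Curv2.idealSheaf A I).comap b).ideal G₁ from (hIc G₁ hG₁).symm,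
      hmul, Scheme.IdealSheafData.ideal_mul, Pi.mul_apply, Scheme.IdealSheafData.ideal_pow, Pi.pow_apply, hE₁,
      Ideal.span_singleton_pow] at hr
    obtain ⟨c, hc, hcc⟩ := Ideal.mem_mul_span_singleton.1 hr
    rw [mul_comm] at hcc
    rw [← (mul_cancel_left_mem_nonZeroDivisors (pow_mem hc₁.nzd o)).1 hcc]
    rw [← I''.ker_subschemeι_app G₁] at hc
    show (ι.appLE G₁.1 Z₁ hZ₁).hom c = 0
    rw [Scheme.Hom.appLE]
    show (Z.presheaf.map (homOfLE hZ₁).op).hom ((ι.app G₁.1).hom c) = 0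
    rw [RingHom.mem_ker.1 hc, map_zero]
  have hσ : σ ∈ L.radical := by
    obtain ⟨k, hk⟩ : IsNilpotent ((ι.appLE G₁.1 Z₁ hZ₁).hom σ) := by
      refine (Scheme.isNilpotent_iff_basicOpen_eq_bot_of_isCompact (Set.toFinite _).isCompact _).2
        (eq_bot_iff.2 fun z hz => ?_)
      rw [Scheme.basicOpen_appLE] at hz
      exact hz.1 (basicOpen_le_chart hb' G₀ G₁ hG₀ hG₁ hc₀ hc₁ hz.2)
    exact ⟨k, by rw [RingHom.mem_ker, map_pow]; exact hk⟩
  have hlen := residual_two hG hc₀ hc₁ hN hJo hJo' hd0 K hK L hL hσ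
  let u : ((Γ(X, G₀.1) ⧸ K) × (Γ(X, G₁.1) ⧸ L)) →ₗ[A'] Γ(Z, Z₀) × Γ(Z, Z₁) :=
    LinearMap.prodMap (Ideal.Quotient.liftₐ K ρ₀ fun a ha => ha).toLinearMap
      (Ideal.Quotient.liftₐ L ρ₁ fun a ha => ha).toLinearMap
  let ψ : Γ(Z, ⊤) →ₗ[A'] Γ(Z, Z₀) × Γ(Z, Z₁) :=
    { toFun := fun s => ((Z.presheaf.map (homOfLE le_top).op).hom s, (Z.presheaf.map (homOfLE le_top).op).hom s)
      map_add' := fun s t => by rw [map_add, map_add]; rfl
      map_smul' := fun a s => by
        rw [RingHom.id_apply, Algebra.smul_def, map_mul, map_mul, Prod.smul_mk, Algebra.smul_def, Algebra.smul_def]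
        congr 2
        · show (Z.presheaf.map (homOfLE (le_top : Z₀ ≤ ⊤)).op).hom (ι.appTop.hom (b.appTop.hom a)) =
            (ι.app G₀.1).hom ((b.appLE ⊤ G₀.1 hG₀).hom a)
          simp only [← CommRingCat.comp_apply, Scheme.Hom.appLE, Category.assoc, Scheme.Hom.naturality]
          rfl
        · show (Z.presheaf.map (homOfLE (le_top : Z₁ ≤ ⊤)).op).hom (ι.appTop.hom (b.appTop.hom a)) =
            (ι.appLE G₁.1 Z₁ hZ₁).hom ((b.appLE ⊤ G₁.1 hG₁).hom a)
          simp only [← CommRingCat.comp_apply, Scheme.Hom.appLE, Category.assoc, Scheme.Hom.naturality_assoc,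
            ← Functor.map_comp]
          rfl }
  have hψ : Function.Injective ψ := by
    rw [injective_iff_map_eq_zero]
    intro s hs
    refine TopCat.Presheaf.section_ext Z.sheaf ⊤ s 0 fun z hz => ?_
    rw [map_zero]
    by_cases h : z ∈ Z₀
    · have := congrArg (Z.presheaf.germ Z₀ z h).hom (congrArg Prod.fst hs)
      rw [Prod.fst_zero, map_zero] at this
      exact (Z.presheaf.germ_res_apply (homOfLE (le_top : Z₀ ≤ ⊤)) z h s).symm.trans this
    · have := congrArg (Z.presheaf.germ Z₁ z h).hom (congrArg Prod.snd hs)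
      rw [Prod.snd_zero, map_zero] at this
      exact (Z.presheaf.germ_res_apply (homOfLE (le_top : Z₁ ≤ ⊤)) z h s).symm.trans this
  have hrange : LinearMap.range ψ ≤ LinearMap.range u := by
    rintro _ ⟨s, rfl⟩
    obtain ⟨r₀, hr₀⟩ := I''.subschemeι_app_surjective G₀ ((Z.presheaf.map (homOfLE (le_top : Z₀ ≤ ⊤)).op).hom s)
    obtain ⟨r₁, hr₁⟩ := I''.subschemeι_app_surjective G₁
      ((Z.presheaf.map (homOfLE (le_top : ι ⁻¹ᵁ G₁.1 ≤ ⊤)).op).hom s)
    refine ⟨(Ideal.Quotient.mk K r₀, Ideal.Quotient.mk L r₁), Prod.ext hr₀ ?_⟩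
    show (Z.presheaf.map (homOfLE hZ₁).op).hom ((ι.app G₁.1).hom r₁) = (Z.presheaf.map (homOfLE _).op).hom s
    rw [show (ι.app G₁.1).hom r₁ = _ from hr₁, ← CommRingCat.comp_apply, ← Functor.map_comp]
    rfl
  have hQ : Module.length A Γ(Z, ⊤) ≤ Module.length A' ((Γ(X, G₀.1) ⧸ K) × (Γ(X, G₁.1) ⧸ L)) := by
    have h1 : Module.length A Γ(Z, ⊤) = Module.length A' Γ(Z, ⊤) := by
      letI : Algebra A A' := (Scheme.ΓSpecIso (CommRingCat.of A)).inv.hom.toAlgebra
      haveI : IsScalarTower A A' Γ(Z, ⊤) := IsScalarTower.of_algebraMap_eq fun _ => rfl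
      exact Module.length_eq_of_surjective (S := A) (R := A') (M := Γ(Z, ⊤)) eA.surjective
    rw [h1, (LinearEquiv.ofInjective ψ hψ).length_eq]
    exact (Module.length_le_of_injective (Submodule.inclusion hrange) (Submodule.inclusion_injective hrange)).trans
      (Module.length_le_of_surjective u.rangeRestrict u.surjective_rangeRestrict)
  have hAI : Module.length A' (A' ⧸ J) = Module.length A (A ⧸ I) := by
    have e : (A ⧸ I) ≃+* (A' ⧸ J) := Ideal.quotientEquiv I J eA hmJ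
    have h1 : Module.length A (A ⧸ I) = Module.length (A ⧸ I) (A ⧸ I) :=
      Module.length_eq_of_surjective Ideal.Quotient.mk_surjective
    have h2 : Module.length A' (A' ⧸ J) = Module.length (A' ⧸ J) (A' ⧸ J) :=
      Module.length_eq_of_surjective Ideal.Quotient.mk_surjective
    rw [h1, h2, length_ringEquiv e]
  have hlt : Module.length A Γ(Z, ⊤) < Module.length A (A ⧸ I) :=
    lt_of_le_of_lt hQ (lt_of_lt_of_eq hlen hAI)
  exact ⟨hlt, sum_stalk_le Z (ne_top_of_lt hlt)⟩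

end Groth.Agent.CurveSep
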