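import Groth.Agent.CurveSep.Strict
import Groth.Agent.PtBlow.Decomp

/-!
Pairs of regular curves and their intersection multiplicities under a point blow-up.
-/

set_option autoImplicit false
set_option backward.isDefEq.respectTransparency false
set_option backward.isDefEq.respectTransparency.types false
set_option linter.style.haveILetI false

universe u

open CategoryTheory CategoryTheory.Limits AlgebraicGeometry TopologicalSpace

noncomputable section

namespace Groth.Agent.CurveSep

/-- a regular integral closed curve -/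
structure IsRegCurve {C X : Scheme.{u}} (ι : C ⟶ X) : Prop where
  closedImmersion : IsClosedImmersion ι
  integral : IsIntegral C
  dim : topologicalKrullDim C = 1
  reg : ∀ c, IsRegularLocalRing (C.presheaf.stalk c)

variable {C D X : Scheme.{u}} {ι : C ⟶ X} {κ : D ⟶ X}

theorem IsRegCurve.exists_ne (h : IsRegCurve ι) (p : X) : ∃ c, ι c ≠ p := by
  haveI := h.closedImmersion
  haveI := h.integral
  by_contra hc
  push Not at hc
  refine ResolveCurve.not_isClosed_genericPoint h.dim ?_
  have : ({genericPoint C} : Set C) = Set.univ := Set.eq_univ_of_forall fun c =>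
    ι.isClosedEmbedding.injective ((hc c).trans (hc (genericPoint C)).symm)
  rw [this]
  exact isClosed_univ

theorem IsRegCurve.exists_ne_gen (h : IsRegCurve ι) {c : C} (hc : c ≠ (haveI := h.integral; genericPoint C)) :
    IsClosed ({c} : Set C) ∧ IsClosed ({ι c} : Set X) := by
  haveI := h.closedImmersion
  haveI := h.integral
  have h1 := ResolveCurve.isClosed_of_ne_genericPoint h.dim.le hc
  refine ⟨h1, ?_⟩
  have := ι.isClosedEmbedding.isClosedMap _ h1
  rwa [Set.image_singleton] at this

theorem gen_notMem (h : IsRegCurve ι) (hκ : IsRegCurve κ) (hne : ¬ Set.range ι ⊆ Set.range κ) :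
    ι (haveI := h.integral; genericPoint C) ∉ κ.ker.support := by
  haveI := h.integral
  haveI := hκ.closedImmersion
  intro hg
  have hg' : ι (genericPoint C) ∈ Set.range κ := by
    have h' : ι (genericPoint C) ∈ (κ.ker.support : Set X) := hg
    rwa [Scheme.Hom.support_ker, κ.isClosedEmbedding.isClosed_range.closure_eq] at h'
  exact hne fun x ⟨c, hc⟩ => hc ▸ ((genericPoint_specializes c).map ι.continuous).mem_closed
    κ.isClosedEmbedding.isClosed_range hg'

theorem mem_support_comap_ker (hκ : IsRegCurve κ) {c : C} :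
    c ∈ (κ.ker.comap ι).support ↔ ι c ∈ Set.range κ := by
  haveI := hκ.closedImmersion
  rw [Scheme.IdealSheafData.support_comap]
  show ι c ∈ (κ.ker.support : Set X) ↔ _
  rw [Scheme.Hom.support_ker, κ.isClosedEmbedding.isClosed_range.closure_eq]

theorem colen_eq_zero_iff (hκ : IsRegCurve κ) {c : C} : colen (κ.ker.comap ι) c = 0 ↔ ι c ∉ Set.range κ := by
  rw [colen, Module.length_eq_zero_iff, Submodule.Quotient.subsingleton_iff, sI_eq_top_iff, mem_support_comap_ker hκ]

theorem colen_ne_top [IsLocallyNoetherian X] (h : IsRegCurve ι) (hκ : IsRegCurve κ)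
    (hne : ¬ Set.range ι ⊆ Set.range κ) (c : C) : colen (κ.ker.comap ι) c ≠ ⊤ := by
  haveI := h.closedImmersion
  haveI := h.integral
  haveI : IsLocallyNoetherian C := LocallyOfFiniteType.isLocallyNoetherian ι
  haveI := ResolveCurve.isPrincipalIdealRing_stalk h.dim.le (h.reg c)
  have hgen : genericPoint C ∉ (κ.ker.comap ι).support := by
    rw [Scheme.IdealSheafData.support_comap]
    exact gen_notMem h hκ hne
  by_cases hf : IsField (C.presheaf.stalk c)
  · have h0 := stalk_ne_bot hgen c
    letI := hf.toField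
    rw [colen, (Ideal.eq_bot_or_top _).resolve_left h0]
    simp
  · have h0 : IntMult.stalkIdeal (κ.ker.comap ι) c * IsLocalRing.maximalIdeal _ ≠ ⊥ := fun h' => by
      rcases Ideal.mul_eq_bot.1 h' with h1 | h1
      · exact stalk_ne_bot hgen c h1
      · exact hf (IsLocalRing.isField_iff_maximalIdeal_eq.2 h1)
    exact ne_top_of_le_ne_top (length_mul_max hf (J := ⊤) h0 (Ideal.mul_mono le_top le_rfl)).1
      (Module.length_le_of_surjective (Submodule.factor Ideal.mul_le_left)
        (Submodule.factor_surjective Ideal.mul_le_left))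

theorem finite_inter [IsNoetherian X] (h : IsRegCurve ι) (hκ : IsRegCurve κ)
    (hne : ¬ Set.range ι ⊆ Set.range κ) : {c : C | ι c ∈ Set.range κ}.Finite := by
  haveI := h.closedImmersion
  haveI := h.integral
  haveI := hκ.closedImmersion
  haveI : IsLocallyNoetherian C := LocallyOfFiniteType.isLocallyNoetherian ι
  haveI : CompactSpace C := QuasiCompact.compactSpace_of_compactSpace ι
  haveI : IsNoetherian C := {}
  refine PtBlow.finite_of_isClosed_singletons (κ.isClosedEmbedding.isClosed_range.preimage ι.continuous) fun c hc => ?_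
  refine (h.exists_ne_gen fun he => gen_notMem h hκ hne ?_).1
  rw [← he]
  show ι c ∈ (κ.ker.support : Set X)
  rw [Scheme.Hom.support_ker]
  exact subset_closure hc

theorem colen_symm (h : IsRegCurve ι) (hκ : IsRegCurve κ) {c : C} {d : D} (hcd : ι c = κ d) :
    colen (κ.ker.comap ι) c = colen (ι.ker.comap κ) d := by
  haveI := h.closedImmersion
  haveI := hκ.closedImmersion
  have hx : ι c ∈ (ι.ker ⊔ κ.ker).support := by
    rw [Scheme.IdealSheafData.support_sup]
    exact ⟨ι.range_subset_ker_support ⟨c, rfl⟩, hcd ▸ κ.range_subset_ker_support ⟨d, rfl⟩⟩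
  obtain ⟨z, hz⟩ := BivarOps.exists_point _ hx
  rw [← length_stalk_sup ι κ.ker z hz]
  have h2 : ∀ (J : X.IdealSheafData) (w : J.subscheme), J = κ.ker ⊔ ι.ker → J.subschemeι w = κ d →
      Module.length (J.subscheme.presheaf.stalk w) (J.subscheme.presheaf.stalk w) = colen (ι.ker.comap κ) d := by
    intro J w hJ hw
    subst hJ
    exact length_stalk_sup κ ι.ker w hw
  exact h2 _ z (sup_comm _ _) (hz.trans hcd)

variable {X' : Scheme.{u}} {b : X' ⟶ X} [IsLocallyNoetherian X] {p : X} {hp : IsClosed ({p} : Set X)}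

theorem IsRegCurve.exists_lift (h : IsRegCurve ι) (hb : BlowUp.IsBlowUp b (vp hp)) :
    ∃ ι' : C ⟶ X', ι' ≫ b = ι ∧ IsRegCurve ι' := by
  haveI := h.closedImmersion
  haveI := h.integral
  obtain ⟨ι', h1, h2⟩ := CurveSep.exists_lift ι hp h.dim.le (h.exists_ne p) (fun c _ => h.reg c) hb
  exact ⟨ι', h1, h2, inferInstance, h.dim, h.reg⟩

theorem not_subset_lift {ι' : C ⟶ X'} {κ' : D ⟶ X'} (hι : ι' ≫ b = ι) (hκ : κ' ≫ b = κ)
    (hne : ¬ Set.range ι ⊆ Set.range κ) : ¬ Set.range ι' ⊆ Set.range κ' := fun h => hne (by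
  rintro _ ⟨c, rfl⟩
  obtain ⟨d, hd⟩ := h ⟨c, rfl⟩
  exact ⟨d, by rw [← hι, ← hκ, Scheme.Hom.comp_apply, Scheme.Hom.comp_apply, hd]⟩)

theorem colen_lift_le {ι' : C ⟶ X'} {κ' : D ⟶ X'} (hι : ι' ≫ b = ι) (hκ : κ' ≫ b = κ) [QuasiCompact κ'] (c : C) :
    colen (κ'.ker.comap ι') c ≤ colen (κ.ker.comap ι) c := by
  have h1 : κ.ker.comap b ≤ κ'.ker := Scheme.IdealSheafData.le_map_iff_comap_le.1 (by
    rw [Scheme.IdealSheafData.map_ker, hκ])
  have h2 : IntMult.stalkIdeal (κ.ker.comap ι) c ≤ IntMult.stalkIdeal (κ'.ker.comap ι') c := by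
    refine sI_mono ?_ c
    rw [← hι, Scheme.IdealSheafData.comap_comp]
    exact Scheme.IdealSheafData.comap_mono ι' h1
  exact Module.length_le_of_surjective (Submodule.factor h2) (Submodule.factor_surjective h2)

theorem colen_lift_lt (h : IsRegCurve ι) (hκ : IsRegCurve κ) (hne : ¬ Set.range ι ⊆ Set.range κ)
    (hb : BlowUp.IsBlowUp b (vp hp)) {ι' : C ⟶ X'} {κ' : D ⟶ X'} [QuasiCompact κ'] (hι : ι' ≫ b = ι)
    (hκb : κ' ≫ b = κ) {c : C} (hc : ι c = p) (hpκ : p ∈ Set.range κ) :
    colen (κ'.ker.comap ι') c + 1 ≤ colen (κ.ker.comap ι) c := by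
  haveI := h.closedImmersion
  haveI := h.integral
  haveI := hκ.closedImmersion
  haveI := hκ.integral
  have hT : BlowUp.IsEffCartierIdeal (((vp hp).comap b).comap κ') := by
    rw [← Scheme.IdealSheafData.comap_comp, hκb]
    exact cartier_comap_vp κ hp hκ.dim.le (hκ.exists_ne p) (fun c _ => hκ.reg c)
  exact (length_lt ι hp h.dim.le (h.exists_ne p) (fun c _ => h.reg c) hι hb.1 κ' hT
    (κ.range_subset_ker_support hpκ) (Scheme.IdealSheafData.le_map_iff_comap_le.1 (by
      rw [Scheme.IdealSheafData.map_ker, hκb])) (gen_notMem h hκ hne) hc).2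

end Groth.Agent.CurveSep
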