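import Groth.Agent.CurveSep.Pair
import Groth.Agent.Nagata.PrimeSubscheme

/-!
Parametrised curves and their simultaneous embedded regularisation by point blow-ups.
-/

set_option autoImplicit false
set_option backward.isDefEq.respectTransparency false
set_option backward.isDefEq.respectTransparency.types false
set_option linter.style.haveILetI false

universe u

open CategoryTheory CategoryTheory.Limits AlgebraicGeometry TopologicalSpace

noncomputable section

namespace Groth.Agent.CurveSep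

theorem seq_comp {W Y X : Scheme.{u}} {g : W ⟶ Y} {h : Y ⟶ X} (hg : Resolve.IsPtBlowupSeq g)
    (hh : Resolve.IsPtBlowupSeq h) : Resolve.IsPtBlowupSeq (g ≫ h) := by
  induction hg with
  | iso e =>
    cases hh with
    | iso e' => exact .iso (e ≪≫ e')
    | step b r z hz hb hr =>
      rw [← Category.assoc]
      exact .step (e.hom ≫ b) r z hz (RZExt.isBlowUp_iso_comp hb e.hom) hr
  | step b r z hz hb hr ih =>
    rw [Category.assoc]
    exact .step b _ z hz hb (ih hh)

theorem isNoetherian_of_proper {X' X : Scheme.{u}} [IsNoetherian X] (g : X' ⟶ X) [IsProper g] : IsNoetherian X' := by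
  haveI : IsLocallyNoetherian X' := LocallyOfFiniteType.isLocallyNoetherian g
  haveI : CompactSpace X' := QuasiCompact.compactSpace_of_compactSpace g
  exact {}

theorem lift_seq {X' X : Scheme.{u}} {g : X' ⟶ X} (hg : Resolve.IsPtBlowupSeq g) :
    ∀ [IsNoetherian X] {C : Scheme.{u}} [IsIntegral C] [IsLocallyNoetherian C] (ν : C ⟶ X),
      topologicalKrullDim C ≤ 1 → (∀ c, IsRegularLocalRing (C.presheaf.stalk c)) →
      ¬ IsClosed ({ν (genericPoint C)} : Set X) → ∃ ν' : C ⟶ X', ν' ≫ g = ν := by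
  induction hg with
  | iso e =>
    intro _ C _ _ ν _ _ _
    exact ⟨ν ≫ e.inv, by simp⟩
  | @step Y Z X b r z hz hb hr ih =>
    intro _ C _ _ ν hd hC hgen
    obtain ⟨ν1, h1⟩ := ih ν hd hC hgen
    haveI := ResolveCurve.isProper_of_seq hr
    obtain ⟨ν2, h2, -⟩ := hb.2 C ν1 (ResolveCurve.cartier_of_regular hd hC _ fun hmem => hgen (by
      rw [Scheme.IdealSheafData.support_comap] at hmem
      have h' : ν1 (genericPoint C) ∈ ((vp hz).support : Set Z) := hmem
      rw [coe_support_vp hz, Set.mem_singleton_iff] at h'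
      rw [← h1, Scheme.Hom.comp_apply, h']
      exact ResolveCurve.isClosed_image r hz))
    exact ⟨ν2, by rw [← Category.assoc, h2, h1]⟩

/-- `ν` parametrises the curve `j₀` of `X₀` inside `X` -/
def IsParam {C Y₀ X₀ X : Scheme.{u}} (j₀ : Y₀ ⟶ X₀) (proj : X ⟶ X₀) (ν : C ⟶ X) : Prop :=
  IsFinite ν ∧ ∃ r : C ⟶ Y₀, ν ≫ proj = r ≫ j₀ ∧ ResolveCurve.IsResolution r

variable {C Y₀ X₀ X : Scheme.{u}} {j₀ : Y₀ ⟶ X₀} {proj : X ⟶ X₀} {ν : C ⟶ X} [IsIntegral Y₀]
  [IsNoetherian X₀] [IsClosedImmersion j₀] (hdim : topologicalKrullDim Y₀ = 1)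

include hdim in
theorem IsParam.props (h : IsParam j₀ proj ν) :
    ∃ _ : IsIntegral C, topologicalKrullDim C = 1 ∧ (∀ c, IsRegularLocalRing (C.presheaf.stalk c)) ∧
      IsLocallyNoetherian C ∧ ¬ IsClosed ({(ν ≫ proj) (genericPoint C)} : Set X₀) := by
  obtain ⟨hf, r, hw, hrp, hCi, ⟨V, hV, hiso⟩, hreg⟩ := h
  haveI := hrp
  haveI := hCi
  haveI := hiso
  haveI : IsNoetherian Y₀ := isNoetherian_of_proper j₀
  haveI := ResolveCurve.isFinite_of_birational r hdim.le hV
  haveI : IsLocallyNoetherian C := LocallyOfFiniteType.isLocallyNoetherian r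
  have hη := ResolveCurve.genericPoint_image r hV
  have hgen : ¬ IsClosed ({(ν ≫ proj) (genericPoint C)} : Set X₀) := fun hc => by
    refine ResolveCurve.not_isClosed_genericPoint hdim ?_
    rw [hw, Scheme.Hom.comp_apply, hη] at hc
    have h' := hc.preimage j₀.continuous
    rwa [show j₀ ⁻¹' {j₀ (genericPoint Y₀)} = {genericPoint Y₀} from
      Set.ext fun y => ⟨fun e => j₀.isClosedEmbedding.injective e, fun e => congrArg j₀ e⟩] at h'
  obtain ⟨y, hy, hyc⟩ : ∃ y : Y₀, y ≠ genericPoint Y₀ ∧ y ∈ Set.range r := by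
    obtain ⟨y, hy⟩ := ResolveCurve.exists_ne_genericPoint hdim
    refine ⟨y, hy, ?_⟩
    exact r.isClosedMap.isClosed_range.closure_eq ▸ (genericPoint_specializes y).mem_closed isClosed_closure
      (subset_closure ⟨genericPoint C, hη⟩)
  obtain ⟨c, rfl⟩ := hyc
  have hc : c ≠ genericPoint C := fun e => hy (e ▸ hη)
  have hd := ResolveCurve.dim_le_of_finite r hdim.le
  exact ⟨inferInstance, ResolveCurve.dim_eq_one hd (ResolveCurve.isClosed_of_ne_genericPoint hd hc) hc.symm, hreg,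
    inferInstance, hgen⟩

include hdim in
theorem IsParam.isRegCurve (h : IsParam j₀ proj ν) (hν : IsClosedImmersion ν) : IsRegCurve ν := by
  obtain ⟨hC, hd, hr, -, -⟩ := h.props hdim
  exact ⟨hν, hC, hd, hr⟩

include hdim in
theorem IsParam.lift [IsNoetherian X] [IsProper proj] (h : IsParam j₀ proj ν) {X' : Scheme.{u}} {g : X' ⟶ X}
    (hg : Resolve.IsPtBlowupSeq g) :
    ∃ ν' : C ⟶ X', IsParam j₀ (g ≫ proj) ν' ∧ (IsClosedImmersion ν → IsClosedImmersion ν') := by
  obtain ⟨hC, hd, hr, hN, hgen⟩ := h.props hdim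
  haveI := hC
  haveI := hN
  obtain ⟨ν', hν'⟩ := lift_seq hg ν hd.le hr fun hc => hgen (by
    rw [Scheme.Hom.comp_apply]; exact ResolveCurve.isClosed_image proj hc)
  haveI := ResolveCurve.isProper_of_seq hg
  obtain ⟨hf, r, hw, hres⟩ := h
  haveI : IsFinite (ν' ≫ g) := by rw [hν']; exact hf
  refine ⟨ν', ⟨IsFinite.of_comp ν' g, r, by rw [← Category.assoc, hν', hw], hres⟩, fun hcl => ?_⟩
  haveI : IsClosedImmersion (ν' ≫ g) := by rw [hν']; exact hcl
  exact IsClosedImmersion.of_comp ν' g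

include hdim in
theorem IsParam.regularise [IsNoetherian X] [IsProper proj] (h : IsParam j₀ proj ν) :
    ∃ (X' : Scheme.{u}) (g : X' ⟶ X) (C' : Scheme.{u}) (ν' : C' ⟶ X'), Resolve.IsPtBlowupSeq g ∧
      IsClosedImmersion ν' ∧ IsParam j₀ (g ≫ proj) ν' := by
  obtain ⟨hC, hd, hr, hN, hgen⟩ := h.props hdim
  haveI := hC
  haveI := hN
  obtain ⟨hf, r, hw, hrp, -, ⟨V, hV, hiso⟩, -⟩ := h
  haveI := hf
  haveI := hrp
  haveI := hiso
  let Y := ν.ker.subscheme
  let τ : C ⟶ Y := ν.toImage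
  have hτ : τ ≫ ν.ker.subschemeι = ν := ν.toImage_imageι
  haveI : IsFinite (τ ≫ ν.ker.subschemeι) := by rw [hτ]; exact hf
  haveI : IsFinite τ := IsFinite.of_comp τ ν.ker.subschemeι
  haveI : IsDominant τ := inferInstanceAs (IsDominant ν.toImage)
  haveI : Nonempty Y := ⟨τ (genericPoint C)⟩
  haveI : IsNoetherian Y := isNoetherian_of_proper ν.ker.subschemeι
  haveI : IsIntegral Y := Nagata.isIntegral_image ν
  haveI : Surjective τ := ⟨fun y => by
    have := (IsDominant.denseRange (f := τ)).closure_eq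
    rw [τ.isClosedMap.isClosed_range.closure_eq] at this
    exact (this.symm ▸ Set.mem_univ y : y ∈ Set.range τ)⟩
  haveI : IsNoetherian Y₀ := isNoetherian_of_proper j₀
  let r' : Y ⟶ Y₀ := IsClosedImmersion.lift j₀ (ν.ker.subschemeι ≫ proj) (by
    rw [← Scheme.IdealSheafData.map_ker, Scheme.IdealSheafData.ker_subschemeι, Scheme.IdealSheafData.map_ker, hw]
    exact Scheme.Hom.le_ker_comp r j₀)
  have hr' : r' ≫ j₀ = ν.ker.subschemeι ≫ proj := IsClosedImmersion.lift_fac _ _ _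
  have hτr : τ ≫ r' = r := by
    rw [← cancel_mono j₀, Category.assoc, hr', reassoc_of% hτ, hw]
  haveI : IsProper (r' ≫ j₀) := by rw [hr']; infer_instance
  haveI : IsProper r' := IsProper.of_comp r' j₀
  haveI : IsIso (τ ∣_ (r' ⁻¹ᵁ V) ≫ r' ∣_ V) := by
    have hi : ∀ f, f = τ ≫ r' → IsIso (f ∣_ V) → IsIso (τ ∣_ (r' ⁻¹ᵁ V) ≫ r' ∣_ V) := by
      rintro _ rfl h
      rwa [morphismRestrict_comp] at h
    exact hi r hτr.symm hiso
  haveI : IsClosedImmersion (τ ∣_ (r' ⁻¹ᵁ V)) := IsClosedImmersion.of_comp _ (r' ∣_ V)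
  haveI : IsReduced (r' ⁻¹ᵁ V).toScheme := inferInstance
  haveI : Surjective (τ ∣_ (r' ⁻¹ᵁ V)) := IsZariskiLocalAtTarget.restrict ‹Surjective τ› _
  haveI : IsIso (τ ∣_ (r' ⁻¹ᵁ V)) := isIso_of_isClosedImmersion_of_surjective _
  haveI : IsIso (r' ∣_ V) := IsIso.of_isIso_comp_left (τ ∣_ (r' ⁻¹ᵁ V)) _
  have hτη : τ (genericPoint C) = genericPoint Y := by
    obtain ⟨c, hc⟩ := τ.surjective (genericPoint Y)
    exact (((hc ▸ (genericPoint_specializes c).map τ.continuous : τ (genericPoint C) ⤳ genericPoint Y)).antisymm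
      (genericPoint_specializes _)).eq
  have hYdim : topologicalKrullDim Y = 1 := by
    haveI := ResolveCurve.isFinite_of_birational r' hdim.le hV
    refine le_antisymm (ResolveCurve.dim_le_of_finite r' hdim.le) ?_
    by_contra hlt
    have h0 : topologicalKrullDim Y ≤ 1 := ResolveCurve.dim_le_of_finite r' hdim.le
    obtain ⟨y, hy⟩ := ResolveCurve.exists_ne_genericPoint hd
    refine hlt (ResolveCurve.dim_eq_one h0 (ResolveCurve.isClosed_of_ne_genericPoint h0 (z := τ y) fun e => ?_) ?_).ge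
    · exact hy (by
        by_contra hy'
        refine ResolveCurve.not_isClosed_genericPoint hdim ?_
        have := ResolveCurve.isClosed_image r (ResolveCurve.isClosed_of_ne_genericPoint hd.le hy)
        rwa [← hτr, Scheme.Hom.comp_apply, e, ResolveCurve.genericPoint_image r' hV] at this)
    · intro e
      refine ResolveCurve.not_isClosed_genericPoint hdim ?_
      have := ResolveCurve.isClosed_image r (ResolveCurve.isClosed_of_ne_genericPoint hd.le hy)
      rwa [← hτr, Scheme.Hom.comp_apply, ← e, ResolveCurve.genericPoint_image r' hV] at this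
  obtain ⟨C', g₀, hseq, hreg'⟩ := ResolveCurve.exists_seq_of_resolution τ hYdim
    ⟨inferInstance, inferInstance, ⟨r' ⁻¹ᵁ V, ⟨genericPoint Y, by
      show r' (genericPoint Y) ∈ V
      rw [ResolveCurve.genericPoint_image r' hV]
      exact (genericPoint_specializes hV.some).mem_open V.isOpen hV.some_mem⟩, inferInstance⟩, hr⟩
  obtain ⟨hg0p, hC'i, V1, hV1, hiso1⟩ := ResolveCurve.isModif_of_seq hseq hYdim
  haveI := hg0p
  haveI := hC'i
  obtain ⟨X', g, j', hg, hj', hsq⟩ := ResolveCurve.exists_seq_ambient hseq ν.ker.subschemeι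
  have hF : IsClosed (r' '' (V1 : Set Y)ᶜ) := r'.isClosedMap _ V1.isOpen.isClosed_compl
  let V' : Y₀.Opens := V ⊓ ⟨(r' '' (V1 : Set Y)ᶜ)ᶜ, hF.isOpen_compl⟩
  have hV' : genericPoint Y₀ ∈ V' := by
    refine ⟨(genericPoint_specializes hV.some).mem_open V.isOpen hV.some_mem, ?_⟩
    rintro ⟨y, hy, hyη⟩
    have hyV : y ∈ r' ⁻¹ᵁ V := by
      show r' y ∈ V
      rw [hyη]
      exact (genericPoint_specializes hV.some).mem_open V.isOpen hV.some_mem
    have hηV : genericPoint Y ∈ r' ⁻¹ᵁ V := (genericPoint_specializes y).mem_open (r' ⁻¹ᵁ V).isOpen hyV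
    have he : (r' ∣_ V) ⟨y, hyV⟩ = (r' ∣_ V) ⟨genericPoint Y, hηV⟩ := Subtype.ext (by
      rw [morphismRestrict_base_coe, morphismRestrict_base_coe, ResolveCurve.genericPoint_image r' hV]
      exact hyη)
    have := congrArg Subtype.val ((r' ∣_ V).isOpenEmbedding.injective he)
    have hyη' : y = genericPoint Y := this
    exact hy (hyη' ▸ (genericPoint_specializes hV1.some).mem_open V1.isOpen hV1.some_mem)
  refine ⟨X', g, C', j', hg, hj', inferInstance, g₀ ≫ r', ?_, inferInstance, inferInstance, ⟨V', ⟨_, hV'⟩, ?_⟩, hreg'⟩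
  · rw [← Category.assoc, hsq, Category.assoc, Category.assoc, hr']
  · haveI : IsIso (r' ∣_ V') := PtBlow.isIso_restrict_le r' inf_le_left ‹_›
    haveI : IsIso (g₀ ∣_ (r' ⁻¹ᵁ V')) := PtBlow.isIso_restrict_le g₀ (V := V1) (fun y hy => by
      by_contra hn
      exact hy.2 ⟨y, hn, rfl⟩) hiso1
    rw [morphismRestrict_comp]
    infer_instance

/-- Finitely many curves with resolutions become regular simultaneously after point blow-ups. -/
theorem regularise_all [IsNoetherian X] {ι : Type} [Finite ι] (Y : ι → Scheme.{u}) (j : ∀ i, Y i ⟶ X)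
    [∀ i, IsIntegral (Y i)] [∀ i, IsClosedImmersion (j i)] (hd : ∀ i, topologicalKrullDim (Y i) = 1)
    (hres : ∀ i, ∃ (C : Scheme.{u}) (r : C ⟶ Y i), ResolveCurve.IsResolution r) :
    ∃ (X' : Scheme.{u}) (g : X' ⟶ X), Resolve.IsPtBlowupSeq g ∧
      ∀ i, ∃ (C : Scheme.{u}) (ν : C ⟶ X'), IsClosedImmersion ν ∧ IsParam (j i) g ν := by
  classical
  haveI := Fintype.ofFinite ι
  suffices H : ∀ s : Finset ι, ∃ (X' : Scheme.{u}) (g : X' ⟶ X), Resolve.IsPtBlowupSeq g ∧
      ∀ i, ∃ (C : Scheme.{u}) (ν : C ⟶ X'), (i ∈ s → IsClosedImmersion ν) ∧ IsParam (j i) g ν by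
    obtain ⟨X', g, hg, h⟩ := H Finset.univ
    exact ⟨X', g, hg, fun i => let ⟨C, ν, h1, h2⟩ := h i; ⟨C, ν, h1 (Finset.mem_univ i), h2⟩⟩
  intro s
  induction s using Finset.induction with
  | empty =>
    refine ⟨X, 𝟙 X, .iso (Iso.refl X), fun i => ?_⟩
    obtain ⟨C, r, hr⟩ := hres i
    haveI : IsNoetherian (Y i) := isNoetherian_of_proper (j i)
    haveI := hr.1
    haveI := hr.2.1
    obtain ⟨V, hV, hiso⟩ := hr.2.2.1
    haveI := ResolveCurve.isFinite_of_birational r (hd i).le hV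
    exact ⟨C, r ≫ j i, fun h => absurd h (Finset.notMem_empty i), inferInstance, r, Category.comp_id _, hr⟩
  | @insert a s ha ih =>
    obtain ⟨X1, g1, hg1, h1⟩ := ih
    haveI := ResolveCurve.isProper_of_seq hg1
    haveI := isNoetherian_of_proper g1
    obtain ⟨Ca, νa, -, hνa⟩ := h1 a
    obtain ⟨X2, g2, C', ν', hg2, hν', hp⟩ := hνa.regularise (hd a)
    refine ⟨X2, g2 ≫ g1, seq_comp hg2 hg1, fun i => ?_⟩
    by_cases hi : i = a
    · subst hi
      exact ⟨C', ν', fun _ => hν', hp⟩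
    · obtain ⟨C, ν, hc, hpar⟩ := h1 i
      obtain ⟨ν2, h2, h3⟩ := hpar.lift (hd i) hg2
      exact ⟨C, ν2, fun hm => h3 (hc ((Finset.mem_insert.1 hm).resolve_left hi)), h2⟩

end Groth.Agent.CurveSep
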