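import Groth.Agent.DiagTor.Scheme
import Groth.Agent.BlowUpLib.Basic
import Groth.Agent.BlowUpLib.Cartier
import Groth.Agent.AlmostBlow.Basic
import Groth.Agent.PtBlow.Model

/-!
Residual ideals with respect to an effective Cartier divisor and stalks of ideal sheaves.
-/

set_option autoImplicit false
set_option backward.isDefEq.respectTransparency false
set_option backward.isDefEq.respectTransparency.types false
set_option linter.style.haveILetI false

universe u

open CategoryTheory CategoryTheory.Limits AlgebraicGeometry TopologicalSpace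

noncomputable section

namespace Groth.Agent.CurveSep

variable {X T : Scheme.{u}}

theorem eq_zero_of_mul {E : X.IdealSheafData} {h : T ⟶ X} (hT : BlowUp.IsEffCartierIdeal (E.comap h))
    {U : X.affineOpens} {e : Γ(X, U.1)} (he : E.ideal U = Ideal.span {e}) (a : Γ(T, h ⁻¹ᵁ U.1))
    (h0 : a * (h.app U.1).hom e = 0) : a = 0 := by
  refine TopCat.Presheaf.section_ext T.sheaf _ _ _ fun t ht => ?_
  obtain ⟨W, htW, hWle, g, hg, hge⟩ := BlowUpLib.exists_small_generator hT (O := h ⁻¹ᵁ U.1) ht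
  let r := (T.presheaf.map (homOfLE hWle).op).hom
  have heW : (E.comap h).ideal W = Ideal.span {r ((h.app U.1).hom e)} := by
    rw [FpqcDescent.ideal_comap_appLE E h U W hWle, he, Ideal.map_span, Set.image_singleton]
    rfl
  obtain ⟨c, hc⟩ : r ((h.app U.1).hom e) ∣ g := by
    rw [← Ideal.mem_span_singleton, ← heW, hge]
    exact Ideal.mem_span_singleton_self g
  have h1 : r a * g = 0 := by
    rw [hc, ← mul_assoc, ← map_mul, h0, map_zero, zero_mul]
  have h2 : r a = 0 := (mem_nonZeroDivisors_iff_right.1 hg) _ h1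
  have h3 := congrArg (T.presheaf.germ W.1 t htW).hom h2
  rw [map_zero] at h3
  exact ((T.presheaf.germ_res_apply (homOfLE hWle) t htW a).symm.trans h3).trans (map_zero _).symm

/-- An ideal inside an effective Cartier divisor `E` and inside the kernel of a map on which `E` stays Cartier
lies in the product of the kernel and `E`. -/
theorem le_mul_of_le {E A : X.IdealSheafData} (hE : BlowUp.IsEffCartierIdeal E) (h : T ⟶ X) [QuasiCompact h]
    (hT : BlowUp.IsEffCartierIdeal (E.comap h)) (hAE : A ≤ E) (hA : A ≤ h.ker) : A ≤ h.ker * E := by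
  refine Scheme.IdealSheafData.le_of_iSup_eq_top
    (fun U : {U : X.affineOpens // ∃ e, E.ideal U = Ideal.span {e}} => U.1) (eq_top_iff.2 fun x _ => ?_)
    fun U s hs => ?_
  · obtain ⟨U, hxU, e, -, he⟩ := hE x
    exact Opens.mem_iSup.2 ⟨⟨U, e, he⟩, hxU⟩
  obtain ⟨e, he⟩ := U.2
  obtain ⟨a, rfl⟩ := Ideal.mem_span_singleton.1 (he ▸ hAE _ hs : s ∈ Ideal.span {e})
  have h0 := hA _ hs
  rw [Scheme.Hom.ker_apply, RingHom.mem_ker, map_mul, mul_comm] at h0
  rw [Scheme.IdealSheafData.ideal_mul, Pi.mul_apply, mul_comm e a]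
  refine Ideal.mul_mem_mul ?_ (he ▸ Ideal.mem_span_singleton_self e)
  rw [Scheme.Hom.ker_apply, RingHom.mem_ker]
  exact eq_zero_of_mul hT he _ h0

/-! ### stalks of ideal sheaves -/

theorem sI_chart (I : X.IdealSheafData) (x : X) (U : X.affineOpens) (hU : x ∈ U.1) :
    IntMult.stalkIdeal I x = (I.ideal U).map (X.presheaf.germ U.1 x hU).hom := by
  by_cases hx : x ∈ I.support
  · exact DiagTor.stalkIdeal_chart I hx U hU
  · have htop : (I.ideal U).map (X.presheaf.germ U.1 x hU).hom = ⊤ := by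
      have h1 := (I.mem_support_iff_of_mem hU).not.1 hx
      rw [Scheme.zeroLocus_def, Set.mem_iInter₂] at h1
      push Not at h1
      obtain ⟨s, hs, hxs⟩ := h1
      refine Ideal.eq_top_of_isUnit_mem _ (Ideal.mem_map_of_mem _ hs) ?_
      exact (X.mem_basicOpen _ x hU).1 (by simpa using hxs)
    rw [htop, eq_top_iff]
    conv_lhs => rw [← htop]
    exact le_iSup₂ (f := fun (V : X.affineOpens) (hV : x ∈ (V : X.Opens)) =>
      (I.ideal V).map (X.presheaf.germ V.1 x hV).hom) U hU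

theorem sI_mul (I J : X.IdealSheafData) (x : X) :
    IntMult.stalkIdeal (I * J) x = IntMult.stalkIdeal I x * IntMult.stalkIdeal J x := by
  obtain ⟨U, hU, hxU, -⟩ := exists_isAffineOpen_mem_and_subset (x := x) (U := (⊤ : X.Opens)) trivial
  rw [sI_chart _ x ⟨U, hU⟩ hxU, sI_chart I x ⟨U, hU⟩ hxU, sI_chart J x ⟨U, hU⟩ hxU,
    Scheme.IdealSheafData.ideal_mul, Pi.mul_apply, Ideal.map_mul]

theorem sI_sup (I J : X.IdealSheafData) (x : X) :
    IntMult.stalkIdeal (I ⊔ J) x = IntMult.stalkIdeal I x ⊔ IntMult.stalkIdeal J x := by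
  obtain ⟨U, hU, hxU, -⟩ := exists_isAffineOpen_mem_and_subset (x := x) (U := (⊤ : X.Opens)) trivial
  rw [sI_chart _ x ⟨U, hU⟩ hxU, sI_chart I x ⟨U, hU⟩ hxU, sI_chart J x ⟨U, hU⟩ hxU,
    Scheme.IdealSheafData.ideal_sup, Pi.sup_apply, Ideal.map_sup]

theorem sI_mono {I J : X.IdealSheafData} (h : I ≤ J) (x : X) :
    IntMult.stalkIdeal I x ≤ IntMult.stalkIdeal J x :=
  iSup₂_mono fun U _ => Ideal.map_mono (h U)

theorem sI_comap {P : Scheme.{u}} (π : P ⟶ X) (I : X.IdealSheafData) (z : P) :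
    IntMult.stalkIdeal (I.comap π) z = (IntMult.stalkIdeal I (π z)).map (π.stalkMap z).hom := by
  obtain ⟨U, hU, hxU, -⟩ := exists_isAffineOpen_mem_and_subset (x := π z) (U := (⊤ : X.Opens)) trivial
  obtain ⟨W, hW, hzW, hWU⟩ := exists_isAffineOpen_mem_and_subset (x := z) (U := π ⁻¹ᵁ U) hxU
  rw [sI_chart _ z ⟨W, hW⟩ hzW, sI_chart I _ ⟨U, hU⟩ hxU,
    FpqcDescent.ideal_comap_appLE I π ⟨U, hU⟩ ⟨W, hW⟩ hWU, Ideal.map_map, Ideal.map_map,
    ← CommRingCat.hom_comp, ← CommRingCat.hom_comp]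
  congr 2
  rw [Scheme.Hom.appLE, Category.assoc, TopCat.Presheaf.germ_res]
  exact (Scheme.Hom.germ_stalkMap π U z hxU).symm

theorem sI_eq_top_iff (I : X.IdealSheafData) (x : X) : IntMult.stalkIdeal I x = ⊤ ↔ x ∉ I.support := by
  refine ⟨fun h hx => ?_, fun hx => ?_⟩
  · exact (IsLocalRing.maximalIdeal.isMaximal (X.presheaf.stalk x)).ne_top
      (top_le_iff.1 (h ▸ BivarOps.stalkIdeal_le_maximal I hx))
  · obtain ⟨U, hU, hxU, -⟩ := exists_isAffineOpen_mem_and_subset (x := x) (U := (⊤ : X.Opens)) trivial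
    have h1 := (I.mem_support_iff_of_mem (U := ⟨U, hU⟩) hxU).not.1 hx
    rw [Scheme.zeroLocus_def, Set.mem_iInter₂] at h1
    push Not at h1
    obtain ⟨s, hs, hxs⟩ := h1
    rw [sI_chart I x ⟨U, hU⟩ hxU]
    exact Ideal.eq_top_of_isUnit_mem _ (Ideal.mem_map_of_mem _ hs) ((X.mem_basicOpen _ x hxU).1 (by simpa using hxs))

/-- The reduced closed point has the maximal ideal as its stalk. -/
theorem sI_point {x : X} (hx : IsClosed ({x} : Set X)) :
    IntMult.stalkIdeal (Scheme.IdealSheafData.vanishingIdeal ⟨{x}, hx⟩) x = IsLocalRing.maximalIdeal _ := by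
  obtain ⟨U, hU, hxU, -⟩ := exists_isAffineOpen_mem_and_subset (x := x) (U := (⊤ : X.Opens)) trivial
  rw [sI_chart _ x ⟨U, hU⟩ hxU]
  haveI := hU.isLocalization_stalk ⟨x, hxU⟩
  letI : Algebra Γ(X, U) (X.presheaf.stalk x) := (X.presheaf.germ U x hxU).hom.toAlgebra
  rw [PtBlow.vanishingIdeal_ideal_eq hx ⟨U, hU⟩ hxU]
  exact IsLocalization.AtPrime.map_eq_maximalIdeal (hU.primeIdealOf ⟨x, hxU⟩).asIdeal (X.presheaf.stalk x)

end Groth.Agent.CurveSep
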