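import Mathlib

/-!
Primes with regular quotient in two-dimensional regular local rings.
-/

set_option autoImplicit false

universe u

open IsLocalRing

namespace Groth.Agent.CurveSep

variable {R : Type u} [CommRing R] [IsRegularLocalRing R]

theorem exists_pair (hd : ringKrullDim R = 2) : ∃ a b : R, maximalIdeal R = Ideal.span {a, b} := by
  have h2 : (maximalIdeal R).spanFinrank = 2 := by
    have := IsRegularLocalRing.spanFinrank_maximalIdeal (R := R)
    rw [hd] at this
    exact_mod_cast this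
  obtain ⟨s, hs, hspan⟩ := Submodule.FG.exists_span_finset_card_eq_spanFinrank (IsNoetherian.noetherian (maximalIdeal R))
  classical
  rw [h2] at hs
  obtain ⟨a, b, -, rfl⟩ := Finset.card_eq_two.1 hs
  exact ⟨a, b, by rw [← hspan]; simp⟩

theorem exists_gen_of_quot (hd : ringKrullDim R = 2) {P : Ideal R} [P.IsPrime] {g : R}
    (hgP : g ∉ P) (hm : P ⊔ Ideal.span {g} = maximalIdeal R) :
    ∃ f, P = Ideal.span {f} ∧ Ideal.span {f, g} = maximalIdeal R := by
  obtain ⟨a, b, hab⟩ := exists_pair hd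
  have hg : g ∈ maximalIdeal R := hm ▸ Ideal.mem_sup_right (Ideal.mem_span_singleton_self g)
  -- `g` is part of a minimal system of generators
  have hgen : ∃ c, Ideal.span {g, c} = maximalIdeal R := by
    have hg' := hg
    rw [hab, Ideal.mem_span_pair] at hg'
    obtain ⟨α, β, rfl⟩ := hg'
    by_cases hα : IsUnit α
    · refine ⟨b, le_antisymm ?_ ?_⟩
      · rw [Ideal.span_le, Set.insert_subset_iff, Set.singleton_subset_iff]
        exact ⟨hg, hab ▸ Ideal.subset_span (by simp)⟩
      · rw [hab, Ideal.span_le, Set.insert_subset_iff, Set.singleton_subset_iff]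
        refine ⟨?_, Ideal.subset_span (by simp)⟩
        obtain ⟨u, rfl⟩ := hα
        rw [SetLike.mem_coe, Ideal.mem_span_pair]
        exact ⟨↑u⁻¹, -(↑u⁻¹ * β), by rw [mul_add, ← mul_assoc, Units.inv_mul]; ring⟩
    by_cases hβ : IsUnit β
    · refine ⟨a, le_antisymm ?_ ?_⟩
      · rw [Ideal.span_le, Set.insert_subset_iff, Set.singleton_subset_iff]
        exact ⟨hg, hab ▸ Ideal.subset_span (by simp)⟩
      · rw [hab, Ideal.span_le, Set.insert_subset_iff, Set.singleton_subset_iff]
        refine ⟨Ideal.subset_span (by simp), ?_⟩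
        obtain ⟨u, rfl⟩ := hβ
        rw [SetLike.mem_coe, Ideal.mem_span_pair]
        exact ⟨↑u⁻¹, -(↑u⁻¹ * α), by rw [mul_add, ← mul_assoc ↑u⁻¹ (↑u : R), Units.inv_mul]; ring⟩
    exfalso
    have hsq : α * a + β * b ∈ maximalIdeal R * maximalIdeal R :=
      add_mem (Ideal.mul_mem_mul ((mem_maximalIdeal _).2 hα) (hab ▸ Ideal.subset_span (by simp)))
        (Ideal.mul_mem_mul ((mem_maximalIdeal _).2 hβ) (hab ▸ Ideal.subset_span (by simp)))
    have hle : maximalIdeal R ≤ P :=
      Submodule.le_of_le_smul_of_le_jacobson_bot (IsNoetherian.noetherian _)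
        (maximalIdeal_le_jacobson _) (hm.symm.le.trans (sup_le le_sup_left
          ((Ideal.span_singleton_le_iff_mem _).2 (Ideal.mem_sup_right hsq))))
    exact hgP (hle hg)
  obtain ⟨c, hc⟩ := hgen
  have hcm : c ∈ P ⊔ Ideal.span {g} := hm ▸ hc ▸ Ideal.subset_span (by simp)
  obtain ⟨f, hf, z, hz, hfz⟩ := Submodule.mem_sup.1 hcm
  obtain ⟨γ, rfl⟩ := Ideal.mem_span_singleton'.1 hz
  have hfg : Ideal.span {f, g} = maximalIdeal R := by
    refine le_antisymm ?_ ?_
    · rw [Ideal.span_le, Set.insert_subset_iff, Set.singleton_subset_iff]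
      exact ⟨hm ▸ Ideal.mem_sup_left hf, hg⟩
    · rw [← hc, Ideal.span_le, Set.insert_subset_iff, Set.singleton_subset_iff]
      refine ⟨Ideal.subset_span (by simp), ?_⟩
      rw [SetLike.mem_coe, Ideal.mem_span_pair]
      exact ⟨1, γ, by rw [one_mul, hfz]⟩
  refine ⟨f, le_antisymm ?_ ((Ideal.span_singleton_le_iff_mem _).2 hf), hfg⟩
  refine Submodule.le_of_le_smul_of_le_jacobson_bot (IsNoetherian.noetherian P) (maximalIdeal_le_jacobson _)
    fun x hx => ?_
  have hxm : x ∈ Ideal.span {f, g} := hfg ▸ IsLocalRing.le_maximalIdeal (Ideal.IsPrime.ne_top ‹_›) hx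
  obtain ⟨u, v, huv⟩ := Ideal.mem_span_pair.1 hxm
  have hvg : v * g ∈ P := by
    have : v * g = x - u * f := by rw [← huv]; ring
    rw [this]
    exact sub_mem hx (P.mul_mem_left _ hf)
  have hv : v ∈ P := ((Ideal.IsPrime.mem_or_mem ‹_› hvg).resolve_right hgP)
  refine huv ▸ add_mem (Ideal.mem_sup_left (Ideal.mem_span_singleton'.2 ⟨u, rfl⟩)) (Ideal.mem_sup_right ?_)
  rw [mul_comm v g]
  exact Submodule.smul_mem_smul hg hv

theorem inf_span_pair {f g : R} [hg : (Ideal.span {g}).IsPrime] (hfg : f ∉ Ideal.span {g}) :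
    Ideal.span {f} ⊓ Ideal.span {g} = Ideal.span {f * g} := by
  refine le_antisymm (fun x hx => ?_) ?_
  · obtain ⟨a, rfl⟩ := Ideal.mem_span_singleton'.1 hx.1
    obtain ⟨c, rfl⟩ := Ideal.mem_span_singleton'.1 ((hg.mem_or_mem hx.2).resolve_right hfg)
    exact Ideal.mem_span_singleton'.2 ⟨c, by ring⟩
  · rw [Ideal.span_singleton_le_iff_mem]
    exact ⟨Ideal.mem_span_singleton'.2 ⟨g, by ring⟩, Ideal.mem_span_singleton'.2 ⟨f, rfl⟩⟩

theorem span_range_two {R : Type u} [CommRing R] (a b : R) :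
    Ideal.span (Set.range ![a, b]) = Ideal.span {a, b} := by
  rw [Matrix.range_cons, Matrix.range_cons, Matrix.range_empty, Set.union_empty, Set.union_singleton]
  exact congrArg Ideal.span (Set.pair_comm _ _)

end Groth.Agent.CurveSep
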