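import Groth.Agent.CurveSep.Surface

/-!
Making a configuration of regular curves on a regular surface normal crossing by point blow-ups.
-/

set_option autoImplicit false
set_option backward.isDefEq.respectTransparency false
set_option backward.isDefEq.respectTransparency.types false
set_option linter.style.haveILetI false

universe u

open CategoryTheory CategoryTheory.Limits AlgebraicGeometry TopologicalSpace

noncomputable section

namespace Groth.Agent.CurveSep

/-- excess of an intersection number over a transversal one -/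
def w1 (e : ℕ∞) : ℕ := e.toNat - 1

theorem w1_mono : ∀ e a : ℕ∞, e ≤ a → a ≠ ⊤ → w1 e ≤ w1 a :=
  fun _ _ h ha => Nat.sub_le_sub_right (ENat.toNat_le_toNat h ha) 1

/-- points lying on three curves -/
def triple {J : Type} {X : Scheme.{u}} {Cs : J → Scheme.{u}} (ι : ∀ k, Cs k ⟶ X) : Set X :=
  {x | ∃ i j k, i ≠ j ∧ i ≠ k ∧ j ≠ k ∧ x ∈ Set.range (ι i) ∧ x ∈ Set.range (ι j) ∧ x ∈ Set.range (ι k)}

/-- the curves cover the support, up to isolated closed points of codimension at most one -/
structure Covers {J : Type} {X : Scheme.{u}} {Cs : J → Scheme.{u}} (D : X.IdealSheafData) (ι : ∀ k, Cs k ⟶ X) :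
    Prop where
  sub : ∀ k, Set.range (ι k) ⊆ (D.support : Set X)
  cover : ∀ x ∈ (D.support : Set X),
    (∃ k, x ∈ Set.range (ι k)) ∨ (IsClosed ({x} : Set X) ∧ ringKrullDim (X.presheaf.stalk x) ≤ 1)

/-- normal crossing configuration -/
structure IsNC {J : Type} {X : Scheme.{u}} {Cs : J → Scheme.{u}} (ι : ∀ k, Cs k ⟶ X) : Prop where
  cfg : IsCfg ι
  trans : ∀ i k, i ≠ k → ∀ c, colen ((ι k).ker.comap (ι i)) c ≤ 1
  noTriple : triple ι = ∅

variable {X : Scheme.{u}} {J : Type} {Cs : J → Scheme.{u}} {ι : ∀ k, Cs k ⟶ X}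

theorem triple_finite [IsNoetherian X] [Finite J] (h : IsCfg ι) : (triple ι).Finite := by
  classical
  refine (Set.finite_iUnion (f := fun q : {q : J × J // q.1 ≠ q.2} =>
    ι q.1.1 '' {c | ι q.1.1 c ∈ Set.range (ι q.1.2)}) fun q =>
      (finite_inter (h.reg _) (h.reg _) (h.sep _ _ q.2)).image _).subset ?_
  rintro x ⟨i, j, k, hij, -, -, ⟨c, rfl⟩, hj, -⟩
  exact Set.mem_iUnion.2 ⟨⟨(i, j), hij⟩, c, hj, rfl⟩

theorem mu_eq_zero_iff [IsNoetherian X] [Fintype J] [DecidableEq J] (h : IsCfg ι) :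
    mu w1 ι = 0 ↔ ∀ i k, i ≠ k → ∀ c, colen ((ι k).ker.comap (ι i)) c ≤ 1 := by
  have key : ∀ i k (hik : i ≠ k) (c : Cs i), w1 (colen ((ι k).ker.comap (ι i)) c) = 0 ↔
      colen ((ι k).ker.comap (ι i)) c ≤ 1 := fun i k hik c => by
    obtain ⟨n, hn⟩ := ENat.ne_top_iff_exists.1 (colen_ne_top (h.reg i) (h.reg k) (h.sep i k hik) c)
    rw [← hn, w1, ENat.toNat_coe, Nat.sub_eq_zero_iff_le]
    exact_mod_cast Iff.rfl
  constructor
  · intro h0 i k hik c
    have h1 := (Finset.sum_eq_zero_iff.1 ((Finset.sum_eq_zero_iff.1 h0) i (Finset.mem_univ i))) k (Finset.mem_univ k)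
    rw [if_neg hik, psum_eq (by simp [w1]) (h.reg i) (h.reg k) (h.sep i k hik)] at h1
    by_cases hc : ι i c ∈ Set.range (ι k)
    · exact (key i k hik c).1 (Finset.sum_eq_zero_iff.1 h1 c ((Set.Finite.mem_toFinset _).2 hc))
    · rw [(colen_eq_zero_iff (h.reg k)).2 hc]; exact bot_le
  · intro hall
    refine Finset.sum_eq_zero fun i _ => Finset.sum_eq_zero fun k _ => ?_
    by_cases hik : i = k
    · rw [if_pos hik]
    · rw [if_neg hik, psum_eq (by simp [w1]) (h.reg i) (h.reg k) (h.sep i k hik)]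
      exact Finset.sum_eq_zero fun c _ => (key i k hik c).2 (hall i k hik c)

theorem isRegPt_of_mem_curve [IsIntegral X] [IsNoetherian X] (hreg : ∀ x : X, IsRegularLocalRing (X.presheaf.stalk x))
    (hdim : topologicalKrullDim X ≤ 2) {C : Scheme.{u}} {e : C ⟶ X} (he : IsRegCurve e)
    (hne : genericPoint X ∉ Set.range e) {c : C} (hc : c ≠ (haveI := he.integral; genericPoint C)) :
    PtBlow.IsRegPt X (e c) := by
  haveI := he.integral
  haveI := he.closedImmersion
  refine ⟨(he.exists_ne_gen hc).2, hreg _, le_antisymm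
    ((RegDual.ringKrullDim_stalk_le_topologicalKrullDim _).trans hdim) ?_⟩
  rw [ringKrullDim_stalk_eq_coheight]
  have h1 := Order.coheight_add_one_le (GrpField.lt_of_specializes ((genericPoint_specializes c).map e.continuous)
    (fun h => hc (e.isClosedEmbedding.injective h).symm))
  have h2 := Order.coheight_add_one_le (GrpField.lt_of_specializes (genericPoint_specializes (e (genericPoint C)))
    (fun h => hne ⟨_, h.symm⟩))
  have h3 : (2 : ℕ∞) ≤ Order.coheight (e c) :=
    le_trans (le_of_eq one_add_one_eq_two.symm) (le_trans (add_le_add (le_trans le_add_self h2) le_rfl) h1)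
  exact WithBot.coe_le_coe.2 h3

/-- One blow-up of a configuration: lifts and the new exceptional curve. -/
theorem exists_step [IsIntegral X] [IsNoetherian X] [Fintype J] [DecidableEq J] (h : IsCfg ι) {p : X}
    (hp : PtBlow.IsRegPt X p) {D : X.IdealSheafData} (hcov : Covers D ι)
    (hpD : p ∈ D.support) :
    ∃ (X' : Scheme.{u}) (b : X' ⟶ X) (Cs' : Option J → Scheme.{u}) (ι' : ∀ o, Cs' o ⟶ X'),
      BlowUp.IsBlowUp b (vp hp.closed) ∧ IsCfg ι' ∧ Covers (D.comap b) ι' ∧
      mu w1 ι' ≤ mu w1 ι ∧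
      (∀ i k, i ≠ k → ∀ c, ι i c = p → p ∈ Set.range (ι k) → 2 ≤ colen ((ι k).ker.comap (ι i)) c →
        mu w1 ι' < mu w1 ι) ∧
      ((∀ i k, i ≠ k → ∀ c, colen ((ι k).ker.comap (ι i)) c ≤ 1) → p ∈ triple ι →
        (triple ι').ncard < (triple ι).ncard) := by
  obtain ⟨X', b, hb⟩ := PtBlow.exists_blowUp hp
  obtain ⟨E, e, he, hek, her⟩ := exists_excCurve hp hb
  obtain ⟨ιs, hl, hls⟩ := h.lift (hp := hp.closed) hb
  haveI := he.closedImmersion
  haveI : ∀ k, IsClosedImmersion (ιs k) := fun k => (hls.reg k).closedImmersion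
  haveI := isProper_b hp.closed hb
  haveI := isNoetherian_of_proper b
  let Cs' : Option J → Scheme.{u} := fun o => o.elim E Cs
  let ι' : ∀ o, Cs' o ⟶ X' := fun o => match o with
    | none => e
    | some k => ιs k
  have hbl : ∀ k (c : Cs k), b (ιs k c) = ι k c := fun k c => by rw [← Scheme.Hom.comp_apply, hl k]
  have hsep1 : ∀ k, ¬ Set.range (ιs k) ⊆ Set.range e := fun k hsub => by
    obtain ⟨c, hc⟩ := (h.reg k).exists_ne p
    have := hsub ⟨c, rfl⟩
    rw [her] at this
    exact hc ((hbl k c).symm.trans this)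
  have hsep2 : ∀ k, ¬ Set.range e ⊆ Set.range (ιs k) := fun k hsub => by
    haveI := he.integral
    haveI : IsIntegral (Cs k) := (hls.reg k).integral
    refine hsep1 k ?_
    obtain ⟨c, hc⟩ := hsub ⟨genericPoint E, rfl⟩
    have hcg : c = genericPoint (Cs k) := by
      by_contra hne
      refine ResolveCurve.not_isClosed_genericPoint he.dim ?_
      have h1 := (hls.reg k).exists_ne_gen hne
      have h2 := h1.2.preimage e.continuous
      rwa [hc, show e ⁻¹' {e (genericPoint E)} = {genericPoint E} from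
        Set.ext fun y => ⟨fun q => e.isClosedEmbedding.injective q, fun q => congrArg e q⟩] at h2
    rintro _ ⟨z, rfl⟩
    exact ((genericPoint_specializes z).map (ιs k).continuous).mem_closed e.isClosedEmbedding.isClosed_range
      ⟨genericPoint E, by rw [← hcg, hc]⟩
  have hcfg : IsCfg ι' := by
    refine ⟨fun o => ?_, fun a c hac => ?_⟩
    · cases o with
      | none => exact he
      | some k => exact hls.reg k
    · cases a with
      | none =>
        cases c with
        | none => exact absurd rfl hac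
        | some k => exact hsep2 k
      | some i =>
        cases c with
        | none => exact hsep1 i
        | some k => exact hls.sep i k fun q => hac (congrArg some q)
  have hE1 : ∀ k (c : Cs k), colen (e.ker.comap (ιs k)) c ≤ 1 := fun k c => by
    by_cases hc : ι k c = p
    · haveI := (h.reg k).closedImmersion
      haveI := (h.reg k).integral
      rw [colen, hek, stalk_exceptional (ι k) hp.closed (hl k) hc]
      haveI : IsSimpleModule _ ((Cs k).presheaf.stalk c ⧸ IsLocalRing.maximalIdeal ((Cs k).presheaf.stalk c)) :=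
        isSimpleModule_iff_isCoatom.2 (Ideal.isMaximal_def.1 inferInstance)
      exact (Module.length_eq_one _ _).le
    · rw [(colen_eq_zero_iff he).2 fun hm => hc (by rw [← hbl]; rw [her] at hm; exact hm)]
      exact bot_le
  have hE2 : ∀ k (d : E), colen ((ιs k).ker.comap e) d ≤ 1 := fun k d => by
    by_cases hd : e d ∈ Set.range (ιs k)
    · obtain ⟨c, hc⟩ := hd
      exact (colen_symm he (hls.reg k) hc.symm).trans_le (hE1 k c)
    · rw [(colen_eq_zero_iff (hls.reg k)).2 hd]; exact bot_le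
  have hw : ∀ a : ℕ∞, a ≤ 1 → w1 a = 0 := fun a ha => by
    rw [w1, Nat.sub_eq_zero_iff_le]
    exact ENat.toNat_le_of_le_coe (by exact_mod_cast ha)
  have hmu : mu w1 ι' = mu w1 ιs := by
    rw [mu, Fintype.sum_option]
    rw [show (∑ k, if (none : Option J) = k then 0 else psum w1 (ι' none) (ι' k)) = 0 from
      Finset.sum_eq_zero fun o _ => by
        cases o with
        | none => rw [if_pos rfl]
        | some k => rw [if_neg (by simp)]; exact finsum_eq_zero_of_forall_eq_zero fun d => hw _ (hE2 k d), zero_add]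
    refine Finset.sum_congr rfl fun i _ => ?_
    rw [Fintype.sum_option, if_neg (by simp),
      show psum w1 (ι' (some i)) (ι' none) = 0 from finsum_eq_zero_of_forall_eq_zero fun c => hw _ (hE1 i c), zero_add]
    exact Finset.sum_congr rfl fun k _ => by simp only [Option.some_inj]; rfl
  refine ⟨X', b, Cs', ι', hb, hcfg, ?_, ?_, fun i k hik c hc hpk h2 => ?_, fun htr hpt => ?_⟩
  · constructor
    · rintro o _ ⟨c, rfl⟩
      rw [Scheme.IdealSheafData.support_comap]
      show b (ι' o c) ∈ (D.support : Set X)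
      cases o with
      | none =>
        show b (e c) ∈ (D.support : Set X)
        rw [show b (e c) = p from her.subset ⟨c, rfl⟩]
        exact hpD
      | some k =>
        rw [show b (ι' (some k) c) = ι k c from hbl k c]
        exact hcov.sub k ⟨c, rfl⟩
    · intro x hx
      rw [Scheme.IdealSheafData.support_comap] at hx
      by_cases hbx : b x = p
      · exact Or.inl ⟨none, her.symm.subset hbx⟩
      rcases hcov.cover (b x) hx with ⟨k, c, hc⟩ | ⟨hcl, hdm⟩
      · exact Or.inl ⟨some k, c, eq_of_off_centre hb (show b (ιs k c) ≠ p by rw [hbl, hc]; exact hbx) ((hbl k c).trans hc)⟩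
      · refine Or.inr ⟨isClosed_of_off_centre hb hbx hcl, ?_⟩
        haveI := BlowUpLib.isIso_stalkMap hb (x := x) (show b x ∉ ((vp hp.closed).support : Set X) by
          rw [coe_support_vp]; exact hbx)
        rwa [← ringKrullDim_eq_of_ringEquiv (asIso (b.stalkMap x)).commRingCatIsoToRingEquiv]
  · rw [hmu]
    refine Finset.sum_le_sum fun a _ => Finset.sum_le_sum fun c _ => ?_
    by_cases hac : a = c
    · simp [hac]
    · rw [if_neg hac, if_neg hac]
      exact psum_le w1_mono (by simp [w1]) (h.reg a) (h.reg c) (h.sep a c hac) (hl a) (hl c)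
  · rw [hmu]
    refine mu_lift_lt w1_mono (by simp [w1]) h hb hl hls hik hc hpk fun a ha => ?_
    obtain ⟨n, hn⟩ := ENat.ne_top_iff_exists.1 (colen_ne_top (h.reg i) (h.reg k) (h.sep i k hik) c)
    rw [← hn] at ha h2 ⊢
    obtain ⟨m, rfl⟩ := ENat.ne_top_iff_exists.1 (ne_top_of_le_ne_top (ENat.coe_ne_top n) (le_trans le_self_add ha))
    have h3 : m + 1 ≤ n := by exact_mod_cast ha
    have h4 : 2 ≤ n := by exact_mod_cast h2
    simp only [w1, ENat.toNat_coe]
    omega
  · have hover : ∀ x ∈ triple ι', b x ≠ p := by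
      rintro x ⟨a, c, d, hac, had, hcd, ha, hc, hd⟩ hx
      obtain ⟨i, k, hik, hi, hk⟩ : ∃ i k, i ≠ k ∧ x ∈ Set.range (ιs i) ∧ x ∈ Set.range (ιs k) := by
        rcases a with _ | i
        · rcases c with _ | k
          · exact absurd rfl hac
          rcases d with _ | l
          · exact absurd rfl had
          exact ⟨k, l, fun q => hcd (congrArg some q), hc, hd⟩
        · rcases c with _ | k
          · rcases d with _ | l
            · exact absurd rfl hcd
            exact ⟨i, l, fun q => had (congrArg some q), ha, hd⟩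
          exact ⟨i, k, fun q => hac (congrArg some q), ha, hc⟩
      obtain ⟨c', rfl⟩ := hi
      obtain ⟨c'', hk'⟩ := hk
      have hp' : p ∈ Set.range (ι k) := ⟨c'', by rw [← hbl, hk']; exact hx⟩
      have h1 := (colen_lift_lt (h.reg i) (h.reg k) (h.sep i k hik) hb (hl i) (hl k)
        ((hbl i c').symm.trans hx) hp').trans (htr i k hik c')
      refine (colen_eq_zero_iff (hls.reg k)).1 ?_ ⟨c'', hk'⟩
      exact le_antisymm ((WithTop.add_le_add_iff_right (by simp)).1 (h1.trans_eq (zero_add 1).symm)) bot_le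
    have hsub : ∀ x ∈ triple ι', b x ∈ triple ι \ {p} := fun x hx => by
      refine ⟨?_, hover x hx⟩
      obtain ⟨a, c, d, hac, had, hcd, ha, hc, hd⟩ := hx
      have key : ∀ o : Option J, x ∈ Set.range (ι' o) → ∃ k, o = some k ∧ b x ∈ Set.range (ι k) := by
        intro o ho
        cases o with
        | none => exact absurd (her.subset ho) (hover x ⟨a, c, d, hac, had, hcd, ha, hc, hd⟩)
        | some k =>
          obtain ⟨z, hz⟩ := ho
          exact ⟨k, rfl, z, by rw [← hz]; exact (hbl k z).symm⟩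
      obtain ⟨i, rfl, hi⟩ := key a ha
      obtain ⟨k, rfl, hk⟩ := key c hc
      obtain ⟨l, rfl, hl'⟩ := key d hd
      exact ⟨i, k, l, fun q => hac (congrArg some q), fun q => had (congrArg some q),
        fun q => hcd (congrArg some q), hi, hk, hl'⟩
    have h1 := Set.ncard_le_ncard_of_injOn (fun x => b x) hsub
      (fun x hx y hy he' => eq_of_off_centre hb (hover x hx) he') ((triple_finite h).diff)
    exact lt_of_le_of_lt h1 (Set.ncard_diff_singleton_lt_of_mem hpt (triple_finite h))

/-- Normal crossings after point blow-ups. -/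
theorem make_snc : ∀ (N T : ℕ) (X : Scheme.{u}) [IsIntegral X] [IsNoetherian X],
    (∀ x : X, IsRegularLocalRing (X.presheaf.stalk x)) → topologicalKrullDim X ≤ 2 →
    ¬ IsClosed ({genericPoint X} : Set X) →
    ∀ (D : X.IdealSheafData), BlowUp.IsEffCartierIdeal D →
    ∀ (J : Type) [Fintype J] [DecidableEq J] (Cs : J → Scheme.{u}) (ι : ∀ k, Cs k ⟶ X), IsCfg ι →
      Covers D ι → mu w1 ι ≤ N → (triple ι).ncard ≤ T →
    ∃ (X' : Scheme.{u}) (g : X' ⟶ X), Resolve.IsPtBlowupSeq g ∧ BlowUp.IsEffCartierIdeal (D.comap g) ∧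
      ∃ (J' : Type) (_ : Finite J') (Cs' : J' → Scheme.{u}) (ι' : ∀ k, Cs' k ⟶ X'), IsNC ι' ∧
        Covers (D.comap g) ι' := by
  intro N
  induction N using Nat.strong_induction_on with
  | _ N ihN =>
  intro T
  induction T using Nat.strong_induction_on with
  | _ T ihT =>
  intro X _ _ hreg hdim hnc D hD J _ _ Cs ι h hcov hN hT
  by_cases hdone : (∀ i k, i ≠ k → ∀ c, colen ((ι k).ker.comap (ι i)) c ≤ 1) ∧ triple ι = ∅
  · exact ⟨X, 𝟙 X, .iso (Iso.refl X), by rwa [Scheme.IdealSheafData.comap_id], J, inferInstance, Cs, ι,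
      ⟨h, hdone.1, hdone.2⟩, by rw [Scheme.IdealSheafData.comap_id]; exact hcov⟩
  have hgen : ∀ k, genericPoint X ∉ Set.range (ι k) := fun k hk => by
    refine BlowUpLib.notMem_support_of_maximalPt hD (x := genericPoint X) (fun y hy => ?_) ?_
    · exact (hy.antisymm (genericPoint_specializes y)).eq
    · exact hcov.sub k hk
  have hpt : ∃ i k, i ≠ k ∧ ∃ c, ι i c ∈ Set.range (ι k) ∧
      (2 ≤ colen ((ι k).ker.comap (ι i)) c ∨
        ((∀ i k, i ≠ k → ∀ c, colen ((ι k).ker.comap (ι i)) c ≤ 1) ∧ ι i c ∈ triple ι)) := by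
    by_cases ht : ∀ i k, i ≠ k → ∀ c, colen ((ι k).ker.comap (ι i)) c ≤ 1
    · obtain ⟨x, hx⟩ := Set.nonempty_iff_ne_empty.2 fun h0 => hdone ⟨ht, h0⟩
      obtain ⟨i, j, k, hij, hik, hjk, ⟨c, rfl⟩, hj, hk⟩ := hx
      exact ⟨i, j, hij, c, hj, Or.inr ⟨ht, i, j, k, hij, hik, hjk, ⟨c, rfl⟩, hj, hk⟩⟩
    · push Not at ht
      obtain ⟨i, k, hik, c, hc⟩ := ht
      refine ⟨i, k, hik, c, ?_, Or.inl (one_add_one_eq_two (R := ℕ∞) ▸ Order.add_one_le_of_lt hc)⟩
      by_contra hn
      rw [(colen_eq_zero_iff (h.reg k)).2 hn] at hc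
      exact not_lt_bot hc
  obtain ⟨i, k, hik, c, hck, hcase⟩ := hpt
  haveI := (h.reg i).integral
  have hcne : c ≠ genericPoint (Cs i) := fun e => gen_notMem (h.reg i) (h.reg k) (h.sep i k hik) (by
    haveI := (h.reg k).closedImmersion
    rw [← e]; exact (ι k).range_subset_ker_support hck)
  have hp := isRegPt_of_mem_curve hreg hdim (h.reg i) (hgen i) hcne
  obtain ⟨X1, b, Cs1, ι1, hb, h1, hcov1, hmu, hlt, htr⟩ :=
    exists_step h hp hcov (hcov.sub i ⟨c, rfl⟩)
  have hb' : Resolve.IsPtBlowupSeq b := Category.comp_id b ▸ .step b (𝟙 X) _ hp.closed hb (.iso (Iso.refl X))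
  obtain ⟨hi1, hn1, hr1, hd1, hp1, ⟨V, hV, hVb⟩, -, -⟩ := seq_facts hb' hreg hdim hnc
  haveI := hi1
  haveI := hn1
  haveI := hp1
  haveI := hVb
  have hnc1 : ¬ IsClosed ({genericPoint X1} : Set X1) := fun hc => hnc (by
    rw [← ResolveCurve.genericPoint_image b hV]; exact ResolveCurve.isClosed_image b hc)
  have hD1 := BlowUpLib.cartier_comap_blowUp hb hD
  obtain ⟨X', g, hg, hgc, rest⟩ : ∃ (X' : Scheme.{u}) (g : X' ⟶ X1), Resolve.IsPtBlowupSeq g ∧
      BlowUp.IsEffCartierIdeal ((D.comap b).comap g) ∧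
      ∃ (J' : Type) (_ : Finite J') (Cs' : J' → Scheme.{u}) (ι' : ∀ k, Cs' k ⟶ X'), IsNC ι' ∧
        Covers ((D.comap b).comap g) ι' := by
    rcases hcase with h2 | ⟨ht, htp⟩
    · exact ihN _ (lt_of_lt_of_le (hlt i k hik c rfl hck h2) hN) _ X1 hr1 hd1 hnc1 _ hD1 _ Cs1 ι1 h1 hcov1 le_rfl le_rfl
    · exact ihT _ (lt_of_lt_of_le (htr ht htp) hT) X1 hr1 hd1 hnc1 _ hD1 _ Cs1 ι1 h1 hcov1 (hmu.trans hN) le_rfl
  rw [← Scheme.IdealSheafData.comap_comp] at hgc rest
  exact ⟨X', g ≫ b, seq_comp hg hb', hgc, rest⟩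

end Groth.Agent.CurveSep
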