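import Groth.Agent.CurveSep.Snc
import Groth.Agent.CurveSep.RingLocal
import Groth.Agent.CurveSep.Disjoint
import Groth.Agent.BivarOps.InterStalk
import Groth.Agent.CDivNormal.Primes
import Groth.Agent.PtBlow.Structure
import Groth.Agent.Devissage.Core

/-!
Embedded resolution: inverse image ideals become normal crossing divisors.
-/

set_option autoImplicit false
set_option backward.isDefEq.respectTransparency false
set_option backward.isDefEq.respectTransparency.types false
set_option linter.style.haveILetI false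

universe u

open CategoryTheory CategoryTheory.Limits AlgebraicGeometry TopologicalSpace

noncomputable section

namespace Groth.Agent.CurveSep

variable {X : Scheme.{u}}

theorem map_radical_stalk (D : X.IdealSheafData) (x : X) (U : X.affineOpens) (hU : x ∈ U.1) :
    (D.radical.ideal U).map (X.presheaf.germ U.1 x hU).hom = (IntMult.stalkIdeal D x).radical := by
  letI : Algebra Γ(X, U.1) (X.presheaf.stalk x) := (X.presheaf.germ U.1 x hU).hom.toAlgebra
  haveI := U.2.isLocalization_stalk ⟨x, hU⟩
  rw [sI_chart D x U hU, Scheme.IdealSheafData.radical_ideal]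
  exact IsLocalization.map_radical (U.2.primeIdealOf ⟨x, hU⟩).asIdeal.primeCompl (X.presheaf.stalk x) _

/-- the prime of a curve through a closed point, with a parameter along the curve -/
theorem exists_param {C : Scheme.{u}} [IsLocallyNoetherian X] {e : C ⟶ X} (he : IsRegCurve e) {c : C}
    (hc : IsClosed ({e c} : Set X)) :
    ∃ g : X.presheaf.stalk (e c), g ∉ IntMult.stalkIdeal e.ker (e c) ∧
      IntMult.stalkIdeal e.ker (e c) ⊔ Ideal.span {g} = IsLocalRing.maximalIdeal _ := by
  haveI := he.closedImmersion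
  haveI := he.integral
  haveI : IsLocallyNoetherian C := LocallyOfFiniteType.isLocallyNoetherian e
  haveI := ResolveCurve.isPrincipalIdealRing_stalk he.dim.le (he.reg c)
  obtain ⟨π, hπ⟩ := (IsPrincipalIdealRing.principal (IsLocalRing.maximalIdeal (C.presheaf.stalk c))).principal
  obtain ⟨g, hg⟩ := e.stalkMap_surjective c π
  rw [DiagTor.stalkIdeal_ker e c]
  refine ⟨g, fun hgk => ?_, ?_⟩
  · rw [RingHom.mem_ker, hg] at hgk
    refine stalk_ne_bot (D := (vp hc).comap e) (fun h => ?_) c ?_
    · obtain ⟨c', hc'⟩ := he.exists_ne (e c)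
      have hη : e (genericPoint C) = e c := (mem_support_vp_comap e hc).1 h
      exact hc' (((genericPoint_specializes c').map e.continuous).mem_closed hc hη)
    · rw [sI_comap, sI_point hc]
      exact (IsLocalRing.map_maximalIdeal_of_surjective _ (e.stalkMap_surjective c)).trans (by
        rw [hπ, hgk]; simp)
  · have hmap : (IsLocalRing.maximalIdeal (C.presheaf.stalk c)).comap (e.stalkMap c).hom =
        IsLocalRing.maximalIdeal (X.presheaf.stalk (e c)) :=
      IsLocalRing.eq_maximalIdeal (Ideal.comap_isMaximal_of_surjective _ (e.stalkMap_surjective c))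
    rw [← hmap, hπ, ← hg]
    show _ = Ideal.comap _ (Ideal.span {_})
    rw [← Set.image_singleton, ← Ideal.map_span, Ideal.comap_map_of_surjective _ (e.stalkMap_surjective c),
      ← RingHom.ker_eq_comap_bot, sup_comm]

theorem isPt_of_seq {Y X : Scheme.{u}} {g : Y ⟶ X} (hg : PtBlow.Seq g) : Resolve.IsPtBlowupSeq g := by
  induction hg with
  | id Y => exact .iso (Iso.refl Y)
  | step b r z hz hN hb hr ih => exact .step b r z hz.closed hb ih

theorem exists_coords [IsIntegral X] [IsNoetherian X] (hreg : ∀ x : X, IsRegularLocalRing (X.presheaf.stalk x))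
    (hdim : topologicalKrullDim X ≤ 2) {D : X.IdealSheafData} (hD : BlowUp.IsEffCartierIdeal D) {J : Type}
    {Cs : J → Scheme.{u}} {ι : ∀ k, Cs k ⟶ X} (h : IsNC ι) (hcov : Covers D ι) (p : X)
    (hp : p ∈ (D.support : Set X)) :
    ∃ (U : X.affineOpens) (hpU : p ∈ (U : X.Opens)) (d r : ℕ) (x : Fin d → X.presheaf.stalk p), 1 ≤ r ∧ r ≤ d ∧
      ringKrullDim (X.presheaf.stalk p) = (d : WithBot ℕ∞) ∧
      Ideal.span (Set.range x) = IsLocalRing.maximalIdeal (X.presheaf.stalk p) ∧
      (D.radical.ideal U).map (X.presheaf.germ (U : X.Opens) p hpU).hom =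
        Ideal.span {∏ i : Fin d, if (i : ℕ) < r then x i else 1} := by
  classical
  obtain ⟨U, hU, hpU, -⟩ := exists_isAffineOpen_mem_and_subset (x := p) (U := (⊤ : X.Opens)) trivial
  refine ⟨⟨U, hU⟩, hpU, ?_⟩
  rw [map_radical_stalk D p ⟨U, hU⟩ hpU]
  haveI := hreg p
  have hgen : genericPoint X ∉ D.support := BlowUpLib.notMem_support_of_maximalPt hD (x := genericPoint X)
    fun y hy => (hy.antisymm (genericPoint_specializes y)).eq
  have hpη : genericPoint X ≠ p := fun e => hgen (e ▸ hp)
  have hD0 : IntMult.stalkIdeal D p ≠ ⊥ := stalk_ne_bot hgen p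
  have hD1 : IntMult.stalkIdeal D p ≤ IsLocalRing.maximalIdeal _ := BivarOps.stalkIdeal_le_maximal D hp
  have hd0 : (1 : WithBot ℕ∞) ≤ ringKrullDim (X.presheaf.stalk p) := by
    rw [ringKrullDim_stalk_eq_coheight]
    refine WithBot.coe_le_coe.2 (le_trans le_add_self
      (Order.coheight_add_one_le (GrpField.lt_of_specializes (genericPoint_specializes p) hpη)))
  by_cases h2 : ringKrullDim (X.presheaf.stalk p) = 2
  swap
  · have h1 : ringKrullDim (X.presheaf.stalk p) ≤ 1 := by
      have hlt := lt_of_le_of_ne ((RegDual.ringKrullDim_stalk_le_topologicalKrullDim p).trans hdim) h2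
      generalize ringKrullDim (X.presheaf.stalk p) = d at hlt ⊢
      induction d with
      | bot => exact bot_le
      | coe d =>
        have h3 : d < (1 : ℕ∞) + 1 := by
          rw [one_add_one_eq_two]
          exact WithBot.coe_lt_coe.1 hlt
        exact_mod_cast (ENat.lt_add_one_iff (by simp)).1 h3
    obtain ⟨_, _⟩ := RatExt.domain_valuationRing_of_regular (hreg p) h1
    haveI : IsPrincipalIdealRing (X.presheaf.stalk p) := inferInstance
    obtain ⟨π, hπ⟩ := (IsPrincipalIdealRing.principal (IsLocalRing.maximalIdeal (X.presheaf.stalk p))).principal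
    refine ⟨1, 1, fun _ => π, le_rfl, le_rfl, le_antisymm h1 hd0, by rw [Set.range_const]; exact hπ.symm, ?_⟩
    have he : (∏ i : Fin 1, if (i : ℕ) < 1 then π else 1) = π := by simp
    rw [he, ← show IsLocalRing.maximalIdeal _ = Ideal.span {π} from hπ]
    refine le_antisymm ?_ ?_
    · exact (Ideal.radical_mono hD1).trans_eq (Ideal.IsMaximal.isPrime inferInstance).radical
    · rw [Ideal.radical_eq_sInf]
      refine le_sInf fun Q ⟨hQ, hQp⟩ => ?_
      haveI := hQp
      haveI : Ring.KrullDimLE 1 (X.presheaf.stalk p) := inferInstance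
      exact (IsLocalRing.eq_maximalIdeal (Ideal.IsPrime.isMaximal hQp (ne_bot_of_le_ne_bot hD0 hQ))).ge
  have hpc := PtBlow.isClosed_of_dim_two hdim h2
  have hk0 : ∃ k, p ∈ Set.range (ι k) := by
    rcases hcov.cover p hp with hk | ⟨-, hle⟩
    · exact hk
    · rw [h2] at hle
      exact absurd hle (by decide)
  let P : J → Ideal (X.presheaf.stalk p) := fun k => IntMult.stalkIdeal (ι k).ker p
  have hP : ∀ k, p ∈ Set.range (ι k) → (P k).IsPrime ∧ IntMult.stalkIdeal D p ≤ P k ∧
      ∃ g, g ∉ P k ∧ P k ⊔ Ideal.span {g} = IsLocalRing.maximalIdeal _ := by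
    rintro k ⟨c, hc⟩
    haveI := (h.cfg.reg k).closedImmersion
    haveI := (h.cfg.reg k).integral
    refine ⟨?_, sI_mono ?_ p, ?_⟩
    · subst hc
      show (IntMult.stalkIdeal (ι k).ker (ι k c)).IsPrime
      rw [DiagTor.stalkIdeal_ker (ι k) c]
      exact RingHom.ker_isPrime _
    · rw [Nakai.ker_eq_vanishingIdeal (ι k)]
      refine Scheme.IdealSheafData.le_support_iff_le_vanishingIdeal.1 fun y hy => ?_
      have hy' : y ∈ ((ι k).ker.support : Set X) := hy
      rw [Scheme.Hom.support_ker, (ι k).isClosedEmbedding.isClosed_range.closure_eq] at hy'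
      exact hcov.sub k hy'
    · subst hc
      exact exists_param (h.cfg.reg k) hpc
  have hrad : (IntMult.stalkIdeal D p).radical = ⨅ (k : J) (_ : p ∈ Set.range (ι k)), P k := by
    refine le_antisymm (le_iInf₂ fun k hk => ?_) ?_
    · haveI := (hP k hk).1
      exact (Ideal.radical_mono (hP k hk).2.1).trans_eq (hP k hk).1.radical
    · rw [Ideal.radical_eq_sInf]
      refine le_sInf fun Q ⟨hQ, hQp⟩ => ?_
      haveI := hQp
      obtain ⟨y, hy, hyQ⟩ := CDivNormal.exists_genPrime_eq p Q
      have hyD : y ∈ D.support := (BivarOps.mem_support_iff_le_genPrime D hy).2 (hQ.trans_eq hyQ.symm)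
      obtain ⟨k, hk⟩ : ∃ k, y ∈ Set.range (ι k) := by
        rcases hcov.cover y hyD with hk | ⟨hcl, hle⟩
        · exact hk
        · have hyp : p = y := hy.mem_closed hcl rfl
          subst hyp
          exact hk0
      haveI := (h.cfg.reg k).closedImmersion
      refine (iInf₂_le k (hy.mem_closed (ι k).isClosedEmbedding.isClosed_range hk)).trans (le_trans ?_ hyQ.le)
      exact (BivarOps.mem_support_iff_le_genPrime _ hy).1 ((ι k).range_subset_ker_support hk)
  obtain ⟨k, hk⟩ := hk0
  obtain ⟨hkp, -, g, hg, hgm⟩ := hP k hk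
  haveI := hkp
  by_cases hl : ∃ l, l ≠ k ∧ p ∈ Set.range (ι l)
  swap
  · push Not at hl
    obtain ⟨f, hf, hfg⟩ := exists_gen_of_quot h2 hg hgm
    refine ⟨2, 1, ![f, g], le_rfl, by norm_num, h2, (span_range_two f g).trans hfg, ?_⟩
    have he : (∏ i : Fin 2, if (i : ℕ) < 1 then ![f, g] i else 1) = f := by simp [Fin.prod_univ_two]
    rw [he, hrad, ← hf]
    refine le_antisymm (iInf₂_le k hk) (le_iInf₂ fun l hl' => ?_)
    rw [show l = k from by_contra fun hne => hl l hne hl']
  obtain ⟨l, hlk, hl⟩ := hl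
  obtain ⟨hlp, -, g', hg', hgm'⟩ := hP l hl
  haveI := hlp
  obtain ⟨q, hq, -⟩ := exists_gen_of_quot h2 hg' hgm'
  have hkl : P k ⊔ P l = IsLocalRing.maximalIdeal _ := by
    obtain ⟨c, hc⟩ := hk
    subst hc
    haveI := (h.cfg.reg k).closedImmersion
    haveI := (h.cfg.reg k).integral
    have h1 : colen ((ι l).ker.comap (ι k)) c = 1 := le_antisymm (h.trans k l (Ne.symm hlk) c)
      (Order.one_le_iff_pos.2 (pos_iff_ne_zero.2 fun h0 => (colen_eq_zero_iff (h.cfg.reg l)).1 h0 hl))
    rw [colen, sI_comap, Module.length_eq_one_iff, isSimpleModule_iff_isCoatom, ← Ideal.isMaximal_def] at h1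
    have h3 := Ideal.comap_isMaximal_of_surjective _ ((ι k).stalkMap_surjective c) (K := _) (H := h1)
    rw [Ideal.comap_map_of_surjective _ ((ι k).stalkMap_surjective c), ← RingHom.ker_eq_comap_bot,
      ← DiagTor.stalkIdeal_ker (ι k) c, sup_comm] at h3
    exact IsLocalRing.eq_maximalIdeal h3
  rw [hq] at hkl
  have hqk : q ∉ P k := fun hqk => by
    have : P k = IsLocalRing.maximalIdeal _ := by
      rw [← hkl, eq_comm, sup_eq_left, Ideal.span_singleton_le_iff_mem]; exact hqk
    exact hg (this ▸ hgm ▸ Ideal.mem_sup_right (Ideal.mem_span_singleton_self g))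
  obtain ⟨f, hf, hfq⟩ := exists_gen_of_quot h2 hqk hkl
  refine ⟨2, 2, ![f, q], by norm_num, le_rfl, h2, (span_range_two f q).trans hfq, ?_⟩
  have he : (∏ i : Fin 2, if (i : ℕ) < 2 then ![f, q] i else 1) = f * q := by simp [Fin.prod_univ_two]
  haveI : (Ideal.span {q}).IsPrime := hq ▸ hlp
  have hfQ : f ∉ Ideal.span {q} := fun hfQ => hg' (by
    have : P l = IsLocalRing.maximalIdeal _ := by
      rw [hq, ← hfq]
      refine le_antisymm (Ideal.span_mono (by simp)) ?_
      rw [Ideal.span_le, Set.insert_subset_iff, Set.singleton_subset_iff]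
      exact ⟨hfQ, Ideal.mem_span_singleton_self q⟩
    exact this ▸ hgm' ▸ Ideal.mem_sup_right (Ideal.mem_span_singleton_self g'))
  rw [he, hrad, ← inf_span_pair hfQ, ← hf, ← hq]
  refine le_antisymm (le_inf (iInf₂_le k hk) (iInf₂_le l hl)) (le_iInf₂ fun a ha => ?_)
  by_cases hak : a = k
  · subst hak; exact inf_le_left
  by_cases hal : a = l
  · subst hal; exact inf_le_right
  exact (Set.eq_empty_iff_forall_notMem.1 h.noTriple p ⟨k, l, a, Ne.symm hlk, Ne.symm hak, Ne.symm hal, hk, hl, ha⟩).elim

theorem isClosed_of_chain [IsIntegral X] (hdim : topologicalKrullDim X ≤ 2) {t w : X} (ht : genericPoint X ≠ t)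
    (h : t ⤳ w) (hne : t ≠ w) : IsClosed ({w} : Set X) := by
  refine PtBlow.isClosed_of_dim_two hdim (le_antisymm
    ((RegDual.ringKrullDim_stalk_le_topologicalKrullDim w).trans hdim) ?_)
  rw [ringKrullDim_stalk_eq_coheight]
  have h1 := Order.coheight_add_one_le (GrpField.lt_of_specializes h hne)
  have h2 := Order.coheight_add_one_le (GrpField.lt_of_specializes (genericPoint_specializes t) ht)
  exact WithBot.coe_le_coe.2
    (le_trans (le_of_eq one_add_one_eq_two.symm) (le_trans (add_le_add (le_trans le_add_self h2) le_rfl) h1))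

/-- the curve with a given non-closed generic point -/
theorem exists_curve_ideal [IsIntegral X] [IsNoetherian X] (hdim : topologicalKrullDim X ≤ 2) {t : X}
    (ht : genericPoint X ≠ t) (hnc : ¬ IsClosed ({t} : Set X)) :
    IsIntegral (IntMult.ptIdeal t).subscheme ∧ topologicalKrullDim ↥(IntMult.ptIdeal t).subscheme = 1 ∧
      ((IntMult.ptIdeal t).support : Set X) = closure {t} := by
  have hs : ((IntMult.ptIdeal t).support : Set X) = closure {t} := by
    rw [IntMult.ptIdeal, Scheme.IdealSheafData.coe_support_vanishingIdeal]; rfl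
  haveI hi : IsIntegral (IntMult.ptIdeal t).subscheme := Devissage.Zi_isIntegral t
  obtain ⟨z, hz⟩ : t ∈ Set.range (IntMult.ptIdeal t).subschemeι := by
    rw [Scheme.IdealSheafData.range_subschemeι, hs]; exact subset_closure rfl
  obtain ⟨w, hw, hwt⟩ : ∃ w, w ∈ closure ({t} : Set X) ∧ w ≠ t := by
    by_contra hall
    push Not at hall
    exact hnc (isClosed_of_closure_subset fun w hw => hall w hw)
  have htw : t ⤳ w := specializes_iff_mem_closure.2 hw
  have hwc := isClosed_of_chain hdim ht htw (Ne.symm hwt)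
  obtain ⟨z', hz'⟩ : w ∈ Set.range (IntMult.ptIdeal t).subschemeι := by
    rw [Scheme.IdealSheafData.range_subschemeι, hs]; exact hw
  let ιt := (IntMult.ptIdeal t).subschemeι
  have hle : topologicalKrullDim ↥(IntMult.ptIdeal t).subscheme ≤ (1 : ℕ) := by
    refine Unibranch.topologicalKrullDim_le_natCast fun n s hn => ?_
    by_contra hn'
    push Not at hn'
    obtain ⟨h1, h1'⟩ := hn ⟨0, by omega⟩
    obtain ⟨h2, h2'⟩ := hn ⟨1, by omega⟩
    have key : ∀ a b, a ⤳ b → a ≠ b → IsClosed ({ιt b} : Set X) := fun a b hab hne => by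
      refine isClosed_of_chain hdim (fun e => ht ?_) (hab.map ιt.continuous) (fun e => hne (ιt.isClosedEmbedding.injective e))
      have : ιt a ∈ closure ({t} : Set X) := hs.subset (by rw [← Scheme.IdealSheafData.range_subschemeι]; exact ⟨a, rfl⟩)
      exact (genericPoint_specializes t).antisymm (e.symm ▸ specializes_iff_mem_closure.2 this) |>.eq
    have h1c := key _ _ h1 h1'
    exact h2' (ιt.isClosedEmbedding.injective (Set.mem_singleton_iff.1 ((h2.map ιt.continuous).mem_closed h1c rfl)).symm)
  refine ⟨hi, ResolveCurve.dim_eq_one (z := z') (by exact_mod_cast hle) ?_ (fun e => hwt ?_), hs⟩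
  · have h' := hwc.preimage ιt.continuous
    rwa [show ιt ⁻¹' {w} = {z'} from Set.ext fun a =>
      ⟨fun e => ιt.isClosedEmbedding.injective ((Set.mem_singleton_iff.1 e).trans hz'.symm), fun e => by
        rw [Set.mem_singleton_iff.1 e]; exact hz'⟩] at h'
  · refine (Specializes.antisymm ?_ htw).eq
    have h1 : ιt (genericPoint (IntMult.ptIdeal t).subscheme) ⤳ t :=
      ((genericPoint_specializes z).map ιt.continuous).trans (specializes_of_eq (show ιt z = t from hz))
    have e2 : ιt (genericPoint (IntMult.ptIdeal t).subscheme) = w := (congrArg ιt e).trans hz'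
    rwa [e2] at h1

theorem main_12466 (X : Scheme.{u}) [IsIntegral X] [IsNoetherian X]
    (hreg : ∀ x : X, IsRegularLocalRing (X.presheaf.stalk x)) (hdim : topologicalKrullDim X = 2)
    (I : X.IdealSheafData) (hI : I ≠ ⊥)
    (hZ : ∀ (J : X.IdealSheafData) [IsIntegral J.subscheme] [QuasiCompact (J.subscheme.fromSpecStalk (genericPoint ↥J.subscheme))] [QuasiSeparated (J.subscheme.fromSpecStalk (genericPoint ↥J.subscheme))],
      (J.support : Set X) ⊆ I.support → topologicalKrullDim ↥J.subscheme = 1 → IsFinite (Curv2.normalizationι J.subscheme)) :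
    ∃ (X' : Scheme.{u}) (g : X' ⟶ X), Models.IsContractionSeq g ∧ BlowUp.IsEffCartierIdeal (I.comap g) ∧
      ∀ p : X', p ∈ ((I.comap g).support : Set X') →
        ∃ (U : X'.affineOpens) (hp : p ∈ (U : X'.Opens)) (d r : ℕ) (x : Fin d → X'.presheaf.stalk p),
          1 ≤ r ∧ r ≤ d ∧ ringKrullDim (X'.presheaf.stalk p) = (d : WithBot ℕ∞) ∧
          Ideal.span (Set.range x) = IsLocalRing.maximalIdeal (X'.presheaf.stalk p) ∧
          ((I.comap g).radical.ideal U).map (X'.presheaf.germ (U : X'.Opens) p hp).hom =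
            Ideal.span {∏ i : Fin d, if (i : ℕ) < r then x i else 1} := by
  classical
  have hnc : ¬ IsClosed ({genericPoint X} : Set X) := fun hc => by
    haveI : Subsingleton X :=
      ⟨fun a b => ((genericPoint_specializes a).mem_closed hc rfl).trans ((genericPoint_specializes b).mem_closed hc rfl).symm⟩
    have h0 : topologicalKrullDim X ≤ (0 : ℕ) := Unibranch.topologicalKrullDim_le_natCast (e := 0) fun n s hs => by
      by_contra hn
      obtain ⟨-, hne⟩ := hs ⟨0, by omega⟩
      exact hne (Subsingleton.elim _ _)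
    rw [hdim] at h0
    exact absurd h0 (by decide)
  have hgenI : genericPoint X ∉ (I.support : Set X) := fun hg => by
    refine hI ?_
    have : (I.support : Set X) = Set.univ := Set.eq_univ_of_forall fun x =>
      (genericPoint_specializes x).mem_closed I.support.isClosed hg
    exact le_bot_iff.1 ((Scheme.IdealSheafData.le_radical I).trans_eq (by
      rw [← Scheme.IdealSheafData.vanishingIdeal_support, show I.support = ⊤ from Closeds.ext this,
        Scheme.IdealSheafData.vanishingIdeal_top]
      exact Scheme.nilradical_eq_bot))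
  -- the one-dimensional components of the given subscheme
  obtain ⟨S, hSf, hScl, hSirr, hS⟩ := NoetherianSpace.exists_finite_set_isClosed_irreducible I.support.isClosed
  let A : Set X := {t | IsGenericPoint t (closure {t}) ∧ closure {t} ∈ S ∧ ¬ IsClosed ({t} : Set X)}
  have hA : A.Finite := by
    refine Set.Finite.of_finite_image (f := fun t => closure ({t} : Set X)) (hSf.subset ?_) fun a _ b _ hab => ?_
    · rintro _ ⟨t, ht, rfl⟩; exact ht.2.1
    · exact (isGenericPoint_closure (x := a)).eq (show IsGenericPoint b (closure {a}) from (show closure {a} = closure {b} from hab) ▸ isGenericPoint_closure)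
  haveI := hA.to_subtype
  obtain ⟨m, ⟨φ⟩⟩ := Finite.exists_equiv_fin A
  let tt : Fin m → X := fun i => (φ.symm i).1
  have htt : ∀ i, tt i ∈ A := fun i => (φ.symm i).2
  have hsub : ∀ i, closure ({tt i} : Set X) ⊆ I.support := fun i y hy => by
    rw [hS]; exact ⟨_, (htt i).2.1, hy⟩
  have hne : ∀ i, genericPoint X ≠ tt i := fun i e => hgenI (e ▸ hsub i (subset_closure rfl))
  let Jd : Fin m → X.IdealSheafData := fun i => IntMult.ptIdeal (tt i)
  have hJd := fun i => exists_curve_ideal hdim.le (hne i) (htt i).2.2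
  haveI : ∀ i, IsIntegral (Jd i).subscheme := fun i => (hJd i).1
  obtain ⟨X1, g1, hg1, h1⟩ := regularise_all (fun i => (Jd i).subscheme) (fun i => (Jd i).subschemeι)
    (fun i => (hJd i).2.1) fun i => by
    haveI : IsNoetherian (Jd i).subscheme := isNoetherian_of_proper (Jd i).subschemeι
    haveI := hZ (Jd i) ((hJd i).2.2.le.trans (hsub i)) (hJd i).2.1
    exact ⟨_, _, ResolveCurve.resolution_of_finite_normalization _ (hJd i).2.1⟩
  obtain ⟨hi1, hn1, hr1, hd1, hp1, ⟨V1, hV1, hiso1⟩, -, -⟩ := seq_facts hg1 hreg hdim.le hnc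
  haveI := hi1
  haveI := hn1
  haveI := hp1
  haveI := hiso1
  have hI1 : I.comap g1 ≠ ⊥ := fun h0 => by
    have hm : genericPoint X1 ∈ ((I.comap g1).support : Set X1) := by
      rw [h0, Scheme.IdealSheafData.support_bot]; trivial
    rw [Scheme.IdealSheafData.support_comap] at hm
    exact hgenI ((ResolveCurve.genericPoint_image g1 hV1) ▸ hm)
  obtain ⟨X2, g2, hg2, -, hD⟩ := PtBlow.exists_principalisation_integral X1 hr1 hd1 (I.comap g1) hI1
  have hg2' : Resolve.IsPtBlowupSeq g2 := isPt_of_seq hg2
  have hg := seq_comp hg2' hg1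
  rw [← Scheme.IdealSheafData.comap_comp] at hD
  obtain ⟨hi2, hn2, hr2, hd2, hp2, ⟨V2, hV2, hiso2⟩, hinj, hcur⟩ := seq_facts hg hreg hdim.le hnc
  haveI := hi2
  haveI := hn2
  haveI := hp2
  haveI := hiso2
  have hnc2 : ¬ IsClosed ({genericPoint X2} : Set X2) := fun hc => hnc (by
    rw [← ResolveCurve.genericPoint_image (g2 ≫ g1) hV2]; exact ResolveCurve.isClosed_image _ hc)
  -- every non-closed generic point of the total transform carries a regular curve
  let D := I.comap (g2 ≫ g1)
  obtain ⟨S', hS'f, hS'cl, hS'irr, hS'⟩ := NoetherianSpace.exists_finite_set_isClosed_irreducible D.support.isClosed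
  let B : Set X2 := {y | closure {y} ∈ S' ∧ ¬ IsClosed ({y} : Set X2)}
  have hB : B.Finite := by
    refine Set.Finite.of_finite_image (f := fun t => closure ({t} : Set X2)) (hS'f.subset ?_) fun a _ b _ hab => ?_
    · rintro _ ⟨t, ht, rfl⟩; exact ht.1
    · exact (isGenericPoint_closure (x := a)).eq (show IsGenericPoint b (closure {a}) from (show closure {a} = closure {b} from hab) ▸ isGenericPoint_closure)
  have hgenD : genericPoint X2 ∉ D.support := BlowUpLib.notMem_support_of_maximalPt hD (x := genericPoint X2)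
    fun y hy => (hy.antisymm (genericPoint_specializes y)).eq
  have hcurve : ∀ y ∈ B, ∃ (E : Scheme.{u}) (e : E ⟶ X2) (_ : IsRegCurve e), closure {y} = Set.range e := by
    intro y hy
    by_cases hc : IsClosed ({(g2 ≫ g1) y} : Set X)
    · exact hcur y hc hy.2
    have hyD : y ∈ (D.support : Set X2) := by rw [hS']; exact ⟨_, hy.1, subset_closure rfl⟩
    have hyI : (g2 ≫ g1) y ∈ (I.support : Set X) := by
      have h' : y ∈ ((I.comap (g2 ≫ g1)).support : Set X2) := hyD
      rwa [Scheme.IdealSheafData.support_comap] at h'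
    obtain ⟨T, hT, hyT⟩ := hS ▸ hyI
    obtain ⟨t, ht⟩ := QuasiSober.sober (hSirr T hT) (hScl T hT)
    have hty : t ⤳ (g2 ≫ g1) y := ht.specializes hyT
    have hte : t = (g2 ≫ g1) y := by
      by_contra hne'
      refine hc (isClosed_of_chain hdim.le (fun e => hgenI ?_) hty hne')
      rw [hS, e]; exact ⟨T, hT, ht.mem⟩
    have htA : t ∈ A := ⟨isGenericPoint_closure, by rw [ht.def]; exact hT, hte ▸ hc⟩
    let i := φ ⟨t, htA⟩
    have hti : tt i = t := by simp [tt, i]
    obtain ⟨C, ν, hν, hpar⟩ := h1 i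
    obtain ⟨ν', hpar', hcl⟩ := hpar.lift (hJd i).2.1 hg2'
    have hreg' := hpar'.isRegCurve (hJd i).2.1 (hcl hν)
    refine ⟨C, ν', hreg', ?_⟩
    haveI := hreg'.closedImmersion
    haveI := hreg'.integral
    obtain ⟨-, r, hw, hrp, -, ⟨W, hW, hisoW⟩, -⟩ := hpar'
    haveI := hisoW
    have hgy : (g2 ≫ g1) (ν' (genericPoint C)) = t := by
      rw [← Scheme.Hom.comp_apply, hw, Scheme.Hom.comp_apply, ResolveCurve.genericPoint_image r hW]
      obtain ⟨z, hz⟩ : t ∈ Set.range (Jd i).subschemeι := by
        rw [Scheme.IdealSheafData.range_subschemeι, (hJd i).2.2, hti]; exact subset_closure rfl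
      have hle : (Jd i).subschemeι (genericPoint _) ∈ closure ({t} : Set X) := by
        rw [← hti, ← (hJd i).2.2, ← Scheme.IdealSheafData.range_subschemeι]; exact ⟨_, rfl⟩
      exact (Specializes.antisymm (hz ▸ (genericPoint_specializes z).map (Jd i).subschemeι.continuous)
        (specializes_iff_mem_closure.2 hle)).eq
    have hye : ν' (genericPoint C) = y := (hinj y _ hc (hte.symm.trans hgy.symm)).symm
    rw [← hye, ← Set.image_singleton, ν'.isClosedEmbedding.closure_image_eq, (genericPoint_spec C).def, Set.image_univ]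
  haveI := hB.to_subtype
  obtain ⟨n, ⟨ψ⟩⟩ := Finite.exists_equiv_fin B
  choose E e he hcl using fun i : Fin n => hcurve _ (ψ.symm i).2
  have hcfg : IsCfg e := by
    refine ⟨he, fun i k hik hsub' => hik ?_⟩
    rw [← hcl, ← hcl] at hsub'
    have h1 : (ψ.symm k).1 ⤳ (ψ.symm i).1 := specializes_iff_mem_closure.2 (hsub' (subset_closure rfl))
    by_contra hne'
    have hne'' : (ψ.symm k).1 ≠ (ψ.symm i).1 := fun q => hne' (ψ.symm.injective (Subtype.ext q)).symm
    refine (ψ.symm i).2.2 (isClosed_of_chain hd2 (fun q => hgenD ?_) h1 hne'')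
    show genericPoint X2 ∈ (D.support : Set X2)
    rw [hS', q]; exact ⟨_, (ψ.symm k).2.1, subset_closure rfl⟩
  have hcov : Covers D e := by
    refine ⟨fun i x hx => ?_, fun x hx => ?_⟩
    · rw [hS']; exact ⟨_, (ψ.symm i).2.1, (hcl i).symm.subset hx⟩
    · rw [hS'] at hx
      obtain ⟨T, hT, hxT⟩ := hx
      obtain ⟨y, hy⟩ := QuasiSober.sober (hS'irr T hT) (hS'cl T hT)
      by_cases hyc : IsClosed ({y} : Set X2)
      · have hxy : x = y := (hy.specializes hxT).mem_closed hyc rfl
        subst hxy
        by_cases hd : ringKrullDim (X2.presheaf.stalk x) ≤ 1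
        · exact Or.inr ⟨hyc, hd⟩
        left
        -- a closed point of codimension two of a Cartier divisor lies on a curve
        obtain ⟨V, hxV, f, hf, hDV⟩ := hD x
        have hfx : IntMult.stalkIdeal D x = Ideal.span {(X2.presheaf.germ V.1 x hxV).hom f} := by
          rw [sI_chart D x V hxV, hDV, Ideal.map_span, Set.image_singleton]
        have hfm : (X2.presheaf.germ V.1 x hxV).hom f ∈ IsLocalRing.maximalIdeal _ :=
          BivarOps.stalkIdeal_le_maximal D (show x ∈ D.support from hS'.symm.subset ⟨T, hT, hxT⟩)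
            (hfx ▸ Ideal.mem_span_singleton_self _)
        obtain ⟨P, hPm⟩ := Ideal.exists_minimalPrimes_le (J := IsLocalRing.maximalIdeal _)
          ((Ideal.span_singleton_le_iff_mem _).2 hfm)
        haveI := hPm.1.1.1
        have hht := Ideal.height_le_one_of_isPrincipal_of_mem_minimalPrimes _ P hPm.1
        obtain ⟨w, hw, hwP⟩ := CDivNormal.exists_genPrime_eq x P
        have hwD : w ∈ (D.support : Set X2) :=
          (BivarOps.mem_support_iff_le_genPrime D hw).2 (hfx.trans_le (hPm.1.1.2.trans_eq hwP.symm))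
        have hwx : w ≠ x := fun q => hd (by
          have hPmax : P = IsLocalRing.maximalIdeal _ := by
            refine le_antisymm hPm.2 ?_
            subst q
            rw [← hwP, ← BivarOps.stalkIdeal_ptIdeal hw]
            have e0 : IntMult.ptIdeal w = vp hyc := by
              rw [IntMult.ptIdeal]; exact congrArg _ (Closeds.ext hyc.closure_eq)
            rw [e0, sI_point]
          rw [← IsLocalRing.maximalIdeal_height_eq_ringKrullDim]
          exact_mod_cast hPmax ▸ hht)
        obtain ⟨T', hT', hwT'⟩ := hS' ▸ hwD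
        obtain ⟨y', hy'⟩ := QuasiSober.sober (hS'irr T' hT') (hS'cl T' hT')
        have hy'w : y' ⤳ w := hy'.specializes hwT'
        have hy'c : ¬ IsClosed ({y'} : Set X2) := fun hc => hwx (by
          have h1 : w = y' := Set.mem_singleton_iff.1 (hy'w.mem_closed hc rfl)
          have h2 : x = w := Set.mem_singleton_iff.1 (hw.mem_closed (s := {w}) (by rw [h1]; exact hc) rfl)
          exact h2.symm)
        have hy'B : y' ∈ B := ⟨by rw [hy'.def]; exact hT', hy'c⟩
        refine ⟨ψ ⟨y', hy'B⟩, (hcl _).subset ?_⟩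
        rw [Equiv.symm_apply_apply]
        exact specializes_iff_mem_closure.1 (hy'w.trans hw)
      · left
        have hyB : y ∈ B := ⟨by rw [hy.def]; exact hT, hyc⟩
        refine ⟨ψ ⟨y, hyB⟩, (hcl _).subset ?_⟩
        rw [Equiv.symm_apply_apply, hy.def]
        exact hxT
  obtain ⟨X3, g3, hg3, hD3, J', -, Cs', ι', hNC, hcov'⟩ :=
    make_snc _ _ X2 hr2 hd2 hnc2 D hD (Fin n) E e hcfg hcov le_rfl le_rfl
  have hfin := seq_comp hg3 hg
  obtain ⟨hi3, hn3, hr3, hd3, hp3, hb3, -, -⟩ := seq_facts hfin hreg hdim.le hnc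
  haveI := hi3
  haveI := hn3
  haveI := hp3
  rw [← Scheme.IdealSheafData.comap_comp] at hD3 hcov'
  exact ⟨X3, g3 ≫ g2 ≫ g1, PtBlow.isContractionSeq_of_birational _ hr3 hd3 hreg hdim.le hb3, hD3,
    exists_coords hr3 hd3 hD3 hNC hcov'⟩

end Groth.Agent.CurveSep
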